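import Cfsg.Prelude.Def_LocalEven
import Cfsg.Prelude.Def_TwoFusion
import Cfsg.Agent.Lib.LocalEven.AbelianClosed
import Cfsg.Agent.S0215

/-!
Strongly closed abelian 2-subgroups: images, restrictions, isolated involutions.
-/

set_option autoImplicit false
set_option linter.style.haveILetI false
set_option linter.unusedSectionVars false

namespace Cfsg.Agent.GoldStruct

open Subgroup
open Cfsg.Agent.LEBasic

/-- An abelian subgroup strongly closed in the Sylow 2-subgroup `T`. -/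
structure SC {G : Type*} [Group G] (T : Sylow 2 G) (A : Subgroup G) : Prop where
  comm : ∀ a ∈ A, ∀ b ∈ A, a * b = b * a
  closed : Cfsg.IsStronglyClosed A (T : Subgroup G)

variable {G : Type*} [Group G] [Finite G] {T : Sylow 2 G} {A : Subgroup G}

theorem SC.le (h : SC T A) : A ≤ (T : Subgroup G) := h.closed.1

theorem SC.mem (h : SC T A) {a : G} (ha : a ∈ A) {g : G} (hg : g * a * g⁻¹ ∈ (T : Subgroup G)) :
    g * a * g⁻¹ ∈ A := h.closed.2 a ha g hg

theorem SC.normalizer_sylow (h : SC T A) :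
    normalizer ((T : Subgroup G) : Set G) ≤ normalizer (A : Set G) :=
  le_normalizer_iff.2 fun n hn a ha => h.mem ha ((mem_normalizer_iff.1 hn a).1 (h.le ha))

theorem SC.sylow_le_normalizer (h : SC T A) : (T : Subgroup G) ≤ normalizer (A : Set G) :=
  le_normalizer.trans h.normalizer_sylow

theorem SC.isPGroup (h : SC T A) : IsPGroup 2 A := T.2.to_le h.le

theorem SC.isMulCommutative (h : SC T A) : IsMulCommutative A :=
  ⟨⟨fun a b => Subtype.ext (h.comm a a.2 b b.2)⟩⟩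

/-- Fusion of an element of `A` is controlled by the normaliser of `A`. -/
theorem SC.control (h : SC T A) {a : G} (ha : a ∈ A) {g : G} (hg : g * a * g⁻¹ ∈ (T : Subgroup G)) :
    ∃ n ∈ normalizer (A : Set G), g * a * g⁻¹ = n * a * n⁻¹ := by
  haveI : Fact (Nat.Prime 2) := ⟨Nat.prime_two⟩
  haveI := h.isMulCommutative
  obtain ⟨n, hn, e⟩ := LEAbelianClosed.controls T h.closed {a}
    (Set.singleton_subset_iff.2 (h.le ha)) g (fun x hx => by rw [Set.mem_singleton_iff.1 hx]; exact hg)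
  exact ⟨n, hn, e a rfl⟩

theorem isPGroup_zpowers_conj {a : G} (ha : a ∈ (T : Subgroup G)) (g : G) :
    IsPGroup 2 (zpowers (g * a * g⁻¹)) := by
  refine (T.2.map (MulAut.conj g).toMonoidHom).to_le ?_
  rw [zpowers_le]
  exact ⟨a, ha, rfl⟩

/-- A 2-element of a subgroup containing `T` is conjugate in it into `T`. -/
theorem exists_conj_mem {M : Subgroup G} (hT : (T : Subgroup G) ≤ M) {x : G} (hx : x ∈ M)
    (hx2 : IsPGroup 2 (zpowers x)) : ∃ c ∈ M, c * x * c⁻¹ ∈ (T : Subgroup G) := by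
  haveI : Fact (Nat.Prime 2) := ⟨Nat.prime_two⟩
  obtain ⟨c, hc, hle⟩ := LESylow.exists_conj_le_of_le (zpowers_le.2 hx) hx2 (T.subtype hT)
  obtain ⟨y, hy, e⟩ := hle ⟨x, mem_zpowers x, rfl⟩
  refine ⟨c, hc, ?_⟩
  have e' : (y : G) = c * x * c⁻¹ := e
  rw [← e']
  exact hy

/-- Fusion in an image comes from fusion upstairs. -/
theorem SC.lift (h : SC T A) {H : Type*} [Group H] (f : G →* H) {a : G} (ha : a ∈ A) {g : G}
    (hy : f g * f a * (f g)⁻¹ ∈ (T : Subgroup G).map f) : ∃ k : G, f k = f g ∧ k * a * k⁻¹ ∈ A := by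
  set M := ((T : Subgroup G).map f).comap f
  have hxM : g * a * g⁻¹ ∈ M := by
    show f (g * a * g⁻¹) ∈ (T : Subgroup G).map f
    rw [map_mul, map_mul, map_inv]
    exact hy
  obtain ⟨c, hc, hcT⟩ := exists_conj_mem (T := T) (M := M) (fun t ht => mem_map_of_mem f ht) hxM
    (isPGroup_zpowers_conj (h.le ha) g)
  obtain ⟨t, ht, et⟩ := mem_comap.1 hc
  have hk : f (t⁻¹ * c) = 1 := by rw [map_mul, map_inv, et, inv_mul_cancel]
  refine ⟨t⁻¹ * c * g, by rw [map_mul f (t⁻¹ * c) g, hk, one_mul], h.mem ha ?_⟩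
  rw [show (t⁻¹ * c * g) * a * (t⁻¹ * c * g)⁻¹ = t⁻¹ * (c * (g * a * g⁻¹) * c⁻¹) * t by group]
  exact mul_mem (mul_mem (inv_mem ht) hcT) ht

/-- The image of a strongly closed abelian subgroup. -/
theorem SC.map [Fact (Nat.Prime 2)] (h : SC T A) {H : Type*} [Group H] (f : G →* H)
    (hf : Function.Surjective f) : SC (T.mapSurjective hf) (A.map f) := by
  refine ⟨?_, map_mono h.le, ?_⟩
  · rintro _ ⟨a, ha, rfl⟩ _ ⟨b, hb, rfl⟩
    rw [← map_mul, ← map_mul, h.comm a ha b hb]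
  rintro _ ⟨a, ha, rfl⟩ y hy
  obtain ⟨g, rfl⟩ := hf y
  obtain ⟨k, hk, hka⟩ := h.lift f ha hy
  exact ⟨_, hka, by rw [map_mul, map_mul, map_inv, hk]⟩

/-- The restriction to a subgroup containing `A`. -/
theorem SC.restrict (h : SC T A) {M : Subgroup G} (hAM : A ≤ M) :
    ∃ P : Sylow 2 M, SC P (A.subgroupOf M) := by
  haveI : Fact (Nat.Prime 2) := ⟨Nat.prime_two⟩
  obtain ⟨P, hP⟩ := (h.isPGroup.comap_subtype (K := M)).exists_le_sylow
  obtain ⟨U, hU⟩ := (P.2.map M.subtype).exists_le_sylow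
  obtain ⟨g, hg⟩ := MulAction.exists_smul_eq G U T
  have hin : ∀ x ∈ (P : Subgroup M), g * (x : G) * g⁻¹ ∈ (T : Subgroup G) := fun x hx => by
    rw [← hg]
    exact ⟨x, hU ⟨x, hx, rfl⟩, rfl⟩
  have hgA : g ∈ normalizer (A : Set G) := by
    have hle : A.map (MulAut.conj g).toMonoidHom ≤ A := by
      rintro _ ⟨a, ha, rfl⟩
      exact h.mem ha (hin ⟨a, hAM ha⟩ (hP (mem_subgroupOf.2 ha)))
    exact map_conj_eq_iff_mem_normalizer.1 (eq_of_le_of_card_ge hle (card_map_conj _ g).ge)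
  refine ⟨P, fun a ha b hb => Subtype.ext (h.comm a ha b hb), hP, fun a ha m hm => ?_⟩
  show ((m * a * m⁻¹ : M) : G) ∈ A
  have e : g * ((m * a * m⁻¹ : M) : G) * g⁻¹ = g * (m : G) * (a : G) * (g * (m : G))⁻¹ := by
    simp [mul_assoc]
  exact (mem_normalizer_iff.1 hgA _).2 (e ▸ h.mem ha (e ▸ hin _ hm))

/-- The intersection with a normal subgroup. -/
theorem SC.inf (h : SC T A) {N : Subgroup G} (hN : N.Normal) : SC T (A ⊓ N) :=
  ⟨fun a ha b hb => h.comm a ha.1 b hb.1, inf_le_left.trans h.le,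
    fun a ha g hg => ⟨h.mem ha.1 hg, hN.conj_mem a ha.2 g⟩⟩

/-- An isolated involution of a group without odd normal subgroups is central. -/
theorem central_of_isolated (hO : ∀ N : Subgroup G, N.Normal → Odd (Nat.card N) → N = ⊥) (P : Sylow 2 G)
    {u : G} (hu : orderOf u = 2) (huP : u ∈ P)
    (hiso : ∀ g : G, g * u * g⁻¹ ∈ P → g * u * g⁻¹ = u) : u ∈ center G := by
  obtain ⟨N, hN, hodd, hc⟩ := S0215.result P u hu huP hiso
  rw [mem_center_iff]
  intro g
  have h := hc g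
  rw [hO N hN hodd, mem_bot, mul_inv_eq_one] at h
  exact (mul_inv_eq_iff_eq_mul.1 h).symm

theorem core_bot_of_simple [IsSimpleGroup G] (h2 : ∃ x : G, orderOf x = 2) (N : Subgroup G) (hN : N.Normal)
    (hodd : Odd (Nat.card N)) : N = ⊥ := by
  refine (hN.eq_bot_or_eq_top).resolve_right fun e => ?_
  obtain ⟨x, hx⟩ := h2
  rw [e, card_top] at hodd
  exact Nat.not_even_iff_odd.2 hodd (even_iff_two_dvd.2 (hx ▸ orderOf_dvd_natCard x))

end Cfsg.Agent.GoldStruct
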