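import Cfsg.Agent.Lib.GoldStruct.ModelPSU
import Cfsg.Agent.Lib.GoldStruct.Closed
import Cfsg.Agent.Lib.GoldGroups.Naming
import Cfsg.Agent.Lib.Walter4.Ind
import Cfsg.Agent.Lib.SEMain.Bender
import Cfsg.Agent.Lib.SEMain.Main
import Cfsg.Agent.Lib.Suzuki.Minor
import Cfsg.Agent.Lib.JankoRee.Setup
import Cfsg.Agent.Lib.UType.Abelian
import Cfsg.Agent.Lib.FGStruct.J1Order.Invol
import Cfsg.Agent.Lib.Fusion.PSL2Simple
import Cfsg.Prelude.Def_LocalEven

/-!
The simple groups with a strongly closed abelian 2-subgroup: the list, the conjugacy of involutions and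
the properties of the Sylow 2-subgroups, from the simple form of Goldschmidt's theorem.
-/

set_option autoImplicit false
set_option linter.unusedSectionVars false
set_option linter.style.haveILetI false

namespace Cfsg.Agent.GoldStruct

open Subgroup

universe u v w

/-- All involutions are conjugate. -/
def OneClass (L : Type u) [Group L] : Prop :=
  ∀ a b : L, orderOf a = 2 → orderOf b = 2 → IsConj a b

theorem isConj_of_map {L : Type u} {L' : Type v} [Group L] [Group L'] (e : L ≃* L') {a b : L}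
    (h : IsConj (e a) (e b)) : IsConj a b := by
  obtain ⟨c, hc⟩ := isConj_iff.1 h
  exact isConj_iff.2 ⟨e.symm c, e.injective (by simpa using hc)⟩

theorem bend_of_one {L : Type u} [Group L] [Finite L] (P : Sylow 2 L) (h : Bend.{u, v} (P : Subgroup L))
    (T : Sylow 2 L) : Bend.{u, v} (T : Subgroup L) := by
  haveI : Fact (Nat.Prime 2) := ⟨Nat.prime_two⟩
  obtain ⟨g, rfl⟩ := MulAction.exists_smul_eq L P T
  exact h.map (MulAut.conj g)

theorem bend_congr {L : Type u} {L' : Type w} [Group L] [Finite L] [Group L'] [Finite L'] (e : L ≃* L')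
    (P : Sylow 2 L') (h : Bend.{w, v} (P : Subgroup L')) (T : Sylow 2 L) : Bend.{u, v} (T : Subgroup L) := by
  haveI : Fact (Nat.Prime 2) := ⟨Nat.prime_two⟩
  exact bend_of_one (P.mapSurjective (f := e.symm.toMonoidHom) e.symm.surjective) (h.map e.symm) T

theorem bend_sz {L : Type u} [Group L] [Finite L] (h : Cfsg.Lie.IsoSuzuki L) (T : Sylow 2 L) :
    Bend.{u, v} (T : Subgroup L) := by
  obtain ⟨F, _, _, m, hm, hF, ⟨e⟩⟩ := h
  have hd : Suzuki.SzField F m := ⟨hm, hF⟩
  exact bend_congr (e.trans (Suzuki.minorEquiv hd).symm) (Suzuki.rootSylow hd) (sz_bend hd) T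

theorem bend_psu {L : Type u} [Group L] [Finite L] {F : Type} [Field F] [Fintype F] {n : ℕ} (hn : 2 ≤ n)
    (hF : Fintype.card F = (2 ^ n) ^ 2) (e : L ≃* Cfsg.PSU 3 F (2 ^ n)) (T : Sylow 2 L) :
    Bend.{u, v} (T : Subgroup L) := by
  haveI : Fact (Nat.Prime 2) := ⟨Nat.prime_two⟩
  obtain ⟨hch, σ, hinv, hne, hσ, hq⟩ := SU3Sylow.setup (F := F) (n := n) (by omega) hF
  haveI := hinv
  obtain ⟨C⟩ := PSU3Index.exists_ctx hF
  haveI : Finite (Cfsg.PSU 3 F (2 ^ n)) := Finite.of_equiv L e.toEquiv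
  have hcard : Nat.card (radP C) = (2 ^ n) ^ 3 := by
    refine Eq.trans ?_ (PSU3Index.card_rad C)
    refine Nat.card_congr (Equiv.ofBijective (fun x : PSU3Index.rad C => (⟨prj (x : ↥(Cfsg.SU 3 F (2 ^ n))), x, x.2, rfl⟩ : radP C)) ?_).symm
    constructor
    · rintro ⟨x, hx⟩ ⟨y, hy⟩ hxy
      obtain ⟨a, b, h, rfl⟩ := PSU3Index.rad_form C hx
      obtain ⟨c, d, h', rfl⟩ := PSU3Index.rad_form C hy
      obtain ⟨e1, e2⟩ := prj_uEl_inj C h h' (congrArg Subtype.val hxy)
      exact Subtype.ext (uEl_congr C h h' e1 e2)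
    · rintro ⟨_, x, hx, rfl⟩
      exact ⟨⟨x, hx⟩, rfl⟩
  have hp : IsPGroup 2 (radP C) := IsPGroup.of_card (n := n * 3) (by rw [hcard, pow_mul])
  obtain ⟨P, hP⟩ := hp.exists_le_sylow
  obtain ⟨eP⟩ := SU3Sylow.sylow_PSU_equiv (σ := σ) hne (by omega : 1 ≤ n) hσ hq P
  have heq : radP C = (P : Subgroup _) := eq_of_le_of_card_ge hP (by
    rw [hcard, Nat.card_congr eP.toEquiv, SU3Sylow.Heis.card_eq hne hq])
  exact bend_congr e P (heq ▸ psu_bend C hn rfl) T

theorem psl_two_even_conj {F : Type} [Field F] [Fintype F] [CharP F 2]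
    {x y : Matrix.ProjectiveSpecialLinearGroup (Fin 2) F} (hx : orderOf x = 2) (hy : orderOf y = 2) :
    IsConj x y := by
  haveI : Fact (Nat.Prime 2) := ⟨Nat.prime_two⟩
  have hc : ∀ z ∈ center (Matrix.SpecialLinearGroup (Fin 2) F), z = 1 := by
    intro z hz
    obtain ⟨r, hr, hrz⟩ := Matrix.SpecialLinearGroup.mem_center_iff.1 hz
    rw [Fintype.card_fin, sq_eq_one_iff, CharTwo.neg_eq, or_self] at hr
    rw [hr, map_one] at hrz
    exact Subtype.ext hrz.symm
  have hlift : ∀ z : Matrix.ProjectiveSpecialLinearGroup (Fin 2) F, orderOf z = 2 →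
      ∃ M : Matrix.SpecialLinearGroup (Fin 2) F, QuotientGroup.mk' _ M = z ∧ orderOf M = 2 := by
    intro z hz
    obtain ⟨M, rfl⟩ := QuotientGroup.mk'_surjective _ z
    refine ⟨M, rfl, ?_⟩
    exact (orderOf_injective _ ((injective_iff_map_eq_one _).2 fun w hw => hc w ((QuotientGroup.eq_one_iff w).1 hw)) M).symm.trans hz
  obtain ⟨a, rfl, ha⟩ := hlift x hx
  obtain ⟨b, rfl, hb⟩ := hlift y hy
  obtain ⟨ta, nsa⟩ := SL2Classes.trace_of_order 2 a ha
  obtain ⟨tb, nsb⟩ := SL2Classes.trace_of_order 2 b hb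
  obtain ⟨c, hc'⟩ := isConj_iff.1 (SL2Classes.isConj_two nsa nsb (ta.trans tb.symm))
  exact isConj_iff.2 ⟨QuotientGroup.mk' _ c, by rw [← map_inv, ← map_mul, ← map_mul, hc']⟩

/-- The list, for an abelian Sylow 2-subgroup. -/
theorem abelian_kind {L : Type u} [Group L] [Finite L] [IsSimpleGroup L] (hW : GoldGroups.WalterGood.{u})
    (hNF : GoldGroups.RJNoField.{u}) (hna : ¬ IsMulCommutative L)
    (hab : ∀ P : Sylow 2 L, IsMulCommutative (P : Subgroup L)) :
    Cfsg.IsGoldschmidtGroup L ∧ OneClass L ∧ ∀ T : Sylow 2 L, Bend.{u, v} (T : Subgroup L) := by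
  haveI : Fact (Nat.Prime 2) := ⟨Nat.prime_two⟩
  refine ⟨GoldGroups.gold_of_abelian hW hNF hna hab, ?_⟩
  rcases hW L inferInstance hna hab with ⟨F, _, _, hcase, ⟨e⟩⟩ | hRJ
  · rcases hcase with ⟨h35, h5⟩ | ⟨n, hn, hF⟩
    · have hodd : Odd (Fintype.card F) := Nat.odd_iff.2 (by omega)
      refine ⟨fun a b ha hb => isConj_of_map e (FusionSys.involutions_conj (Nat.odd_iff.1 hodd)
        (by rw [MulEquiv.orderOf_eq, ha]) (by rw [MulEquiv.orderOf_eq, hb])),
        fun T => bend_of_elementary (JankoRee.psl2_sylow_of_equiv hodd (by omega) e T (hab T)).2.1⟩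
    · haveI : CharP F 2 := charP_of_card_eq_prime_pow hF
      refine ⟨fun a b ha hb => isConj_of_map e (psl_two_even_conj
        (by rw [MulEquiv.orderOf_eq, ha]) (by rw [MulEquiv.orderOf_eq, hb])),
        fun T => bend_of_elementary fun x hx => e.injective ?_⟩
      obtain ⟨k, hk⟩ := T.2 ⟨x, hx⟩
      have hk' : x ^ 2 ^ k = 1 := congrArg Subtype.val hk
      rw [map_mul, map_one]
      exact UType.psl_two_sq (e x) (k := k) (by rw [← map_pow, hk', map_one])
  · obtain ⟨-, S, hS, -⟩ := hRJ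
    have hcard : ∀ P : Sylow 2 L, Nat.card (P : Subgroup L) = 8 := fun P =>
      (Nat.card_congr (Sylow.equiv P S).toEquiv).trans hS.card
    exact ⟨fun a b ha hb => J1Order.one_class hna (fun P => (hcard P).dvd) ha hb,
      bend_of_one S (bend_of_elementary hS.sq)⟩

end Cfsg.Agent.GoldStruct
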