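import Mathlib.Algebra.Group.Subgroup.Ker
import Mathlib.Algebra.Field.Basic
import Mathlib.Tactic.Group
import Mathlib.Tactic.FieldSimp
import Mathlib.Tactic.LinearCombination
import Mathlib.GroupTheory.Subgroup.Center

/-!
The properties of the Sylow 2-subgroups of the simple groups with a strongly closed abelian 2-subgroup,
with respect to the action of their normalisers.
-/

set_option autoImplicit false
set_option linter.style.haveILetI false
set_option linter.unusedSectionVars false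

namespace Cfsg.Agent.GoldStruct

open Subgroup

universe u v w

/-- What is used about a Sylow 2-subgroup `T`: with `Ω = {x ∈ T | x * x = 1}` central and `T/Ω` elementary,
forms and homomorphisms on `T/Ω` invariant under the normaliser of `T` vanish, and so on. -/
structure Bend {L : Type u} [Group L] (T : Subgroup L) : Prop where
  central : ∀ x ∈ T, x * x = 1 → ∀ y ∈ T, x * y = y * x
  sq : ∀ x ∈ T, (x * x) * (x * x) = 1
  roots : (∀ x ∈ T, x * x = 1) ∨ ∀ w ∈ T, w * w = 1 → ∃ x ∈ T, x * x = w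
  pair : ∀ {M : Type v} [CommGroup M] (f : L → L → M),
    (∀ x ∈ T, ∀ y ∈ T, ∀ z ∈ T, f (x * y) z = f x z * f y z) →
    (∀ x ∈ T, ∀ y ∈ T, ∀ z ∈ T, f x (y * z) = f x y * f x z) →
    (∀ w ∈ T, w * w = 1 → ∀ y ∈ T, f w y = 1 ∧ f y w = 1) →
    (∀ d ∈ normalizer (T : Set L), ∀ x ∈ T, ∀ y ∈ T, f (d * x * d⁻¹) (d * y * d⁻¹) = f x y) →
    ∀ x ∈ T, ∀ y ∈ T, f x y = 1
  fpf : ∃ d ∈ normalizer (T : Set L), ∀ x ∈ T,
    x⁻¹ * (d * x * d⁻¹) * (x⁻¹ * (d * x * d⁻¹)) = 1 → x * x = 1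
  nocomm : ∀ x ∈ T, x * x ≠ 1 → ∃ d ∈ normalizer (T : Set L), x * (d * x * d⁻¹) ≠ d * x * d⁻¹ * x
  hom : ∀ h : L → L, (∀ x ∈ T, ∀ y ∈ T, h (x * y) = h x * h y) →
    (∀ x ∈ T, h x ∈ T ∧ h x * h x = 1) → (∀ x ∈ T, x * x = 1 → h x = 1) →
    (∀ d ∈ normalizer (T : Set L), ∀ x ∈ T, h (d * x * d⁻¹) = d * h x * d⁻¹) →
    ∀ x ∈ T, h x = 1

variable {L : Type u} [Group L]

theorem bend_of_elementary {T : Subgroup L} (h : ∀ x ∈ T, x * x = 1) : Bend.{u, v} T where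
  central := fun x hx _ y hy => by
    have h1 := inv_eq_of_mul_eq_one_right (h x hx)
    have h2 := inv_eq_of_mul_eq_one_right (h y hy)
    have h3 := inv_eq_of_mul_eq_one_right (h _ (mul_mem hx hy))
    rw [mul_inv_rev, h1, h2] at h3
    exact h3.symm
  sq := fun x hx => by rw [h x hx, one_mul]
  roots := Or.inl h
  pair := fun f _ _ h0 _ x hx y hy => (h0 x hx (h x hx) y hy).1
  fpf := ⟨1, one_mem _, fun x hx _ => h x hx⟩
  nocomm := fun x hx hne => absurd (h x hx) hne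
  hom := fun f _ _ h0 _ x hx => h0 x hx (h x hx)

/-- Transport along an isomorphism. -/
theorem Bend.map {L' : Type w} [Group L'] {T : Subgroup L} (h : Bend.{u, v} T) (e : L ≃* L') :
    Bend.{w, v} (T.map e.toMonoidHom) := by
  have hn : ∀ d ∈ normalizer (T : Set L), e d ∈ normalizer ((T.map e.toMonoidHom : Subgroup L') : Set L') :=
    fun d hd => le_normalizer_map e.toMonoidHom ⟨d, hd, rfl⟩
  have hsq : ∀ {x : L}, e x * e x = 1 → x * x = 1 := fun {x} hx => e.injective (by rw [map_mul, hx, map_one])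
  have hsq' : ∀ {x : L}, x * x = 1 → e x * e x = 1 := fun {x} hx => by rw [← map_mul, hx, map_one]
  have hc : ∀ (d x : L), e d * e x * (e d)⁻¹ = e (d * x * d⁻¹) := fun d x => by simp
  refine ⟨?_, ?_, ?_, ?_, ?_, ?_, ?_⟩
  · rintro _ ⟨x, hx, rfl⟩ hx2 _ ⟨y, hy, rfl⟩
    show e x * e y = e y * e x
    rw [← map_mul, h.central x hx (hsq hx2) y hy, map_mul]
  · rintro _ ⟨x, hx, rfl⟩
    show e x * e x * (e x * e x) = 1
    rw [← map_mul, ← map_mul, h.sq x hx, map_one]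
  · rcases h.roots with h' | h'
    · left
      rintro _ ⟨x, hx, rfl⟩
      exact hsq' (h' x hx)
    · right
      rintro _ ⟨x, hx, rfl⟩ hx2
      obtain ⟨y, hy, e'⟩ := h' x hx (hsq hx2)
      exact ⟨e y, ⟨y, hy, rfl⟩, by rw [← map_mul, e']; rfl⟩
  · intro M _ f h1 h2 h3 h4
    rintro _ ⟨x, hx, rfl⟩ _ ⟨y, hy, rfl⟩
    exact h.pair (fun a b => f (e a) (e b))
      (fun a ha b hb c hc => by
        show f (e (a * b)) (e c) = _
        rw [map_mul]; exact h1 _ ⟨a, ha, rfl⟩ _ ⟨b, hb, rfl⟩ _ ⟨c, hc, rfl⟩)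
      (fun a ha b hb c hc => by
        show f (e a) (e (b * c)) = _
        rw [map_mul]; exact h2 _ ⟨a, ha, rfl⟩ _ ⟨b, hb, rfl⟩ _ ⟨c, hc, rfl⟩)
      (fun w hw hw2 b hb => h3 _ ⟨w, hw, rfl⟩ (hsq' hw2) _ ⟨b, hb, rfl⟩)
      (fun d hd a ha b hb => by
        show f (e (d * a * d⁻¹)) (e (d * b * d⁻¹)) = _
        rw [← hc, ← hc]; exact h4 _ (hn d hd) _ ⟨a, ha, rfl⟩ _ ⟨b, hb, rfl⟩) x hx y hy
  · obtain ⟨d, hd, hd'⟩ := h.fpf
    refine ⟨e d, hn d hd, ?_⟩
    rintro _ ⟨x, hx, rfl⟩ hx2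
    refine hsq' (hd' x hx (hsq ?_))
    simpa using hx2
  · rintro _ ⟨x, hx, rfl⟩ hne
    obtain ⟨d, hd, hd'⟩ := h.nocomm x hx (fun e2 => hne (hsq' e2))
    refine ⟨e d, hn d hd, fun hcm => hd' (e.injective ?_)⟩
    show e (x * (d * x * d⁻¹)) = e (d * x * d⁻¹ * x)
    rw [map_mul e x, map_mul e _ x, ← hc]
    exact hcm
  · intro f h1 h2 h3 h4
    rintro _ ⟨x, hx, rfl⟩
    have := h.hom (fun a => e.symm (f (e a)))
      (fun a ha b hb => by
        show e.symm (f (e (a * b))) = _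
        rw [map_mul e, h1 (e a) ⟨a, ha, rfl⟩ (e b) ⟨b, hb, rfl⟩, map_mul])
      (fun a ha => by
        obtain ⟨⟨c, hcT, hce⟩, h22⟩ := h2 _ ⟨a, ha, rfl⟩
        have h22' : f (e a) * f (e a) = 1 := h22
        refine ⟨?_, by rw [← map_mul, h22', map_one]⟩
        show e.symm (f (e a)) ∈ T
        rw [show f (e a) = e c from hce.symm, e.symm_apply_apply]
        exact hcT)
      (fun a ha ha2 => by
        show e.symm (f (e a)) = 1
        rw [h3 (e a) ⟨a, ha, rfl⟩ (hsq' ha2), map_one])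
      (fun d hd a ha => by
        show e.symm (f (e (d * a * d⁻¹))) = d * e.symm (f (e a)) * d⁻¹
        rw [← hc, h4 (e d) (hn d hd) (e a) ⟨a, ha, rfl⟩, map_mul, map_mul, map_inv, e.symm_apply_apply])
      x hx
    exact e.symm.injective (this.trans e.symm.map_one.symm)

/-! ### From coordinates -/

/-- A scalar realised by the normaliser of `T`. -/
def Scal {F : Type*} [Field F] (T : Subgroup L) (ψ : L → F) (μ : F) : Prop :=
  ∃ d ∈ normalizer (T : Set L), ∀ x ∈ T, ψ (d * x * d⁻¹) = μ * ψ x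

/-- The coordinate data. -/
structure Coord {F : Type*} [Field F] (T : Subgroup L) (ψ : L → F) : Prop where
  add : ∀ x ∈ T, ∀ y ∈ T, ψ (x * y) = ψ x + ψ y
  zero : ∀ x ∈ T, ψ x = 0 ↔ x * x = 1
  surj : ∀ v : F, ∃ x ∈ T, ψ x = v
  central : ∀ x ∈ T, x * x = 1 → ∀ y ∈ T, x * y = y * x
  sq : ∀ x ∈ T, (x * x) * (x * x) = 1
  root : ∀ w ∈ T, w * w = 1 → ∃ x ∈ T, x * x = w

namespace Coord

variable {F : Type*} [Field F] {T : Subgroup L} {ψ : L → F} (c : Coord T ψ)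
include c

theorem map_one : ψ 1 = 0 := (c.zero 1 (one_mem _)).2 (one_mul 1)

theorem map_inv {x : L} (hx : x ∈ T) : ψ x⁻¹ = - ψ x := by
  have h := c.add x⁻¹ (inv_mem hx) x hx
  rw [inv_mul_cancel, c.map_one] at h
  exact eq_neg_of_add_eq_zero_left h.symm

theorem diff {x y : L} (hx : x ∈ T) (hy : y ∈ T) (h : ψ x = ψ y) : x⁻¹ * y * (x⁻¹ * y) = 1 := by
  rw [← c.zero _ (mul_mem (inv_mem hx) hy), c.add _ (inv_mem hx) _ hy, c.map_inv hx, h, neg_add_cancel]

theorem sq_eq {x y : L} (hx : x ∈ T) (hy : y ∈ T) (h : ψ x = ψ y) : x * x = y * y := by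
  obtain ⟨w, rfl⟩ : ∃ w, y = x * w := ⟨x⁻¹ * y, by group⟩
  have hw : w ∈ T := by simpa using mul_mem (inv_mem hx) hy
  have hw2 : w * w = 1 := by simpa using c.diff hx hy h
  have hc := c.central w hw hw2 x hx
  calc x * x = x * x * (w * w) := by rw [hw2, mul_one]
    _ = x * (x * w) * w := by group
    _ = x * (w * x) * w := by rw [hc]
    _ = x * w * (x * w) := by group

end Coord

variable {F : Type*} [Field F]

theorem pair_of_coord {T : Subgroup L} {ψ : L → F} (c : Coord T ψ) {μ : F} (h1 : Scal T ψ μ)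
    (h2 : Scal T ψ (μ + 1)) (hμ0 : μ ≠ 0) (hμ1 : μ + 1 ≠ 0) (hμ : μ * μ + μ + 1 ≠ 0)
    {M : Type v} [CommGroup M] (f : L → L → M)
    (hl : ∀ x ∈ T, ∀ y ∈ T, ∀ z ∈ T, f (x * y) z = f x z * f y z)
    (hr : ∀ x ∈ T, ∀ y ∈ T, ∀ z ∈ T, f x (y * z) = f x y * f x z)
    (h0 : ∀ w ∈ T, w * w = 1 → ∀ y ∈ T, f w y = 1 ∧ f y w = 1)
    (hinv : ∀ d ∈ normalizer (T : Set L), ∀ x ∈ T, ∀ y ∈ T, f (d * x * d⁻¹) (d * y * d⁻¹) = f x y) :
    ∀ x ∈ T, ∀ y ∈ T, f x y = 1 := by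
  classical
  choose s hs hψs using c.surj
  have keyl : ∀ x ∈ T, ∀ x' ∈ T, ψ x = ψ x' → ∀ y ∈ T, f x y = f x' y := by
    intro x hx x' hx' e y hy
    have hw := c.diff hx hx' e
    calc f x y = f x y * f (x⁻¹ * x') y := by
          rw [(h0 _ (mul_mem (inv_mem hx) hx') hw y hy).1, mul_one]
      _ = f x' y := by rw [← hl x hx _ (mul_mem (inv_mem hx) hx') y hy, mul_inv_cancel_left]
  have keyr : ∀ x ∈ T, ∀ x' ∈ T, ψ x = ψ x' → ∀ y ∈ T, f y x = f y x' := by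
    intro x hx x' hx' e y hy
    have hw := c.diff hx hx' e
    calc f y x = f y x * f y (x⁻¹ * x') := by
          rw [(h0 _ (mul_mem (inv_mem hx) hx') hw y hy).2, mul_one]
      _ = f y x' := by rw [← hr y hy x hx _ (mul_mem (inv_mem hx) hx'), mul_inv_cancel_left]
  obtain ⟨g, hg⟩ : ∃ g : F → F → M, ∀ v w, g v w = f (s v) (s w) := ⟨_, fun _ _ => rfl⟩
  have key : ∀ x ∈ T, ∀ y ∈ T, f x y = g (ψ x) (ψ y) := fun x hx y hy => by
    rw [hg, keyl x hx (s (ψ x)) (hs _) (hψs _).symm y hy,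
      keyr y hy (s (ψ y)) (hs _) (hψs _).symm _ (hs _)]
  have gl : ∀ a b v, g (a + b) v = g a v * g b v := fun a b v => by
    rw [hg a, hg b, ← hl _ (hs a) _ (hs b) _ (hs v), key _ (mul_mem (hs a) (hs b)) _ (hs v),
      c.add _ (hs a) _ (hs b), hψs, hψs, hψs]
  have gr : ∀ v a b, g v (a + b) = g v a * g v b := fun v a b => by
    rw [hg v a, hg v b, ← hr _ (hs v) _ (hs a) _ (hs b), key _ (hs v) _ (mul_mem (hs a) (hs b)),
      c.add _ (hs a) _ (hs b), hψs, hψs, hψs]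
  have ginv : ∀ l, Scal T ψ l → ∀ v w, g (l * v) (l * w) = g v w := by
    rintro l ⟨d, hd, hl'⟩ v w
    have hv := (mem_normalizer_iff.1 hd _).1 (hs v)
    have hw := (mem_normalizer_iff.1 hd _).1 (hs w)
    rw [hg v w, ← hinv d hd _ (hs v) _ (hs w), key _ hv _ hw, hl' _ (hs v), hl' _ (hs w), hψs, hψs]
  have main : ∀ v w, g v (((μ + 1)⁻¹ - μ⁻¹ - 1) * w) = 1 := by
    intro v w
    have a1 : g (μ * v) w = g v (μ⁻¹ * w) := by
      conv_lhs => rw [show w = μ * (μ⁻¹ * w) by rw [mul_inv_cancel_left₀ hμ0]]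
      exact ginv μ h1 v _
    have a2 : g ((μ + 1) * v) w = g v ((μ + 1)⁻¹ * w) := by
      conv_lhs => rw [show w = (μ + 1) * ((μ + 1)⁻¹ * w) by rw [mul_inv_cancel_left₀ hμ1]]
      exact ginv _ h2 v _
    rw [add_mul, one_mul, gl, a1, ← gr] at a2
    have a3 := gr v (((μ + 1)⁻¹ - μ⁻¹ - 1) * w) (μ⁻¹ * w + w)
    rw [show ((μ + 1)⁻¹ - μ⁻¹ - 1) * w + (μ⁻¹ * w + w) = (μ + 1)⁻¹ * w by ring, ← a2] at a3
    exact mul_eq_right.1 a3.symm
  have hc0 : (μ + 1)⁻¹ - μ⁻¹ - 1 ≠ 0 := by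
    intro e
    field_simp at e
    exact hμ (by linear_combination -e)
  intro x hx y hy
  rw [key x hx y hy, show ψ y = ((μ + 1)⁻¹ - μ⁻¹ - 1) * (((μ + 1)⁻¹ - μ⁻¹ - 1)⁻¹ * ψ y) by
    rw [mul_inv_cancel_left₀ hc0]]
  exact main _ _

variable {T : Subgroup L} {ψ : L → F}

/-- A normalising element centralising the involutions acts fixed point freely on the quotient. -/
def Fixed (T : Subgroup L) (ψ : L → F) : Prop :=
  ∃ μ : F, μ ≠ 1 ∧ ∃ d ∈ normalizer (T : Set L),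
    (∀ x ∈ T, ψ (d * x * d⁻¹) = μ * ψ x) ∧ ∀ x ∈ T, d * (x * x) * d⁻¹ = x * x

/-- All scalars are realised and `T` is not commutative. -/
def Transitive (T : Subgroup L) (ψ : L → F) : Prop :=
  (∀ μ : F, μ ≠ 0 → Scal T ψ μ) ∧ ∃ x ∈ T, ∃ y ∈ T, x * y ≠ y * x

theorem bend_of_coord (c : Coord T ψ) {μ : F} (h1 : Scal T ψ μ) (h2 : Scal T ψ (μ + 1)) (hμ0 : μ ≠ 0)
    (hμ1 : μ + 1 ≠ 0) (hμne : μ ≠ 1) (hμ : μ * μ + μ + 1 ≠ 0) (hk : Fixed T ψ ∨ Transitive T ψ) :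
    Bend.{u, v} T where
  central := c.central
  sq := c.sq
  roots := Or.inr c.root
  pair := fun {M} _ f => pair_of_coord c h1 h2 hμ0 hμ1 hμ f
  fpf := by
    obtain ⟨d, hd, hd'⟩ := h1
    refine ⟨d, hd, fun x hx he => ?_⟩
    have hdx := (mem_normalizer_iff.1 hd x).1 hx
    have e := (c.zero _ (mul_mem (inv_mem hx) hdx)).2 he
    rw [c.add _ (inv_mem hx) _ hdx, c.map_inv hx, hd' x hx] at e
    refine (c.zero x hx).1 ?_
    have e' : (μ - 1) * ψ x = 0 := by linear_combination e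
    exact (mul_eq_zero.1 e').resolve_left (sub_ne_zero.2 hμne)
  nocomm := by
    intro x hx hne
    have hx0 : ψ x ≠ 0 := fun e => hne ((c.zero x hx).1 e)
    rcases hk with ⟨ν, hν, d, hd, hd1, hd2⟩ | ⟨htr, hnc⟩
    · refine ⟨d, hd, fun hcm => ?_⟩
      have hdx := (mem_normalizer_iff.1 hd x).1 hx
      have hc : Commute x (d * x * d⁻¹) := hcm
      have e : x⁻¹ * (d * x * d⁻¹) * (x⁻¹ * (d * x * d⁻¹)) = 1 := by
        rw [← pow_two, hc.inv_left.mul_pow, pow_two, pow_two,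
          show d * x * d⁻¹ * (d * x * d⁻¹) = d * (x * x) * d⁻¹ by group, hd2 x hx]
        group
      have e' := (c.zero _ (mul_mem (inv_mem hx) hdx)).2 e
      rw [c.add _ (inv_mem hx) _ hdx, c.map_inv hx, hd1 x hx] at e'
      have e'' : (ν - 1) * ψ x = 0 := by linear_combination e'
      exact hx0 ((mul_eq_zero.1 e'').resolve_left (sub_ne_zero.2 hν))
    · by_contra hall
      simp only [not_exists, not_and, not_not] at hall
      have hxc : ∀ y ∈ T, x * y = y * x := by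
        intro y hy
        by_cases hy0 : ψ y = 0
        · exact (c.central y hy ((c.zero y hy).1 hy0) x hx).symm
        obtain ⟨d, hd, hd'⟩ := htr (ψ y / ψ x) (div_ne_zero hy0 hx0)
        have hdx := (mem_normalizer_iff.1 hd x).1 hx
        have he : ψ (d * x * d⁻¹) = ψ y := by rw [hd' x hx, div_mul_cancel₀ _ hx0]
        have hw := c.diff hdx hy he
        have hwT := mul_mem (inv_mem hdx) hy
        calc x * y = x * (d * x * d⁻¹) * ((d * x * d⁻¹)⁻¹ * y) := by group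
          _ = d * x * d⁻¹ * (x * ((d * x * d⁻¹)⁻¹ * y)) := by rw [hall d hd]; group
          _ = y * x := by rw [← c.central _ hwT hw x hx]; group
      obtain ⟨a, ha, b, hb, hab⟩ := hnc
      have hcen : ∀ a ∈ T, ∀ y ∈ T, a * y = y * a := by
        intro a ha y hy
        by_cases ha0 : ψ a = 0
        · exact c.central a ha ((c.zero a ha).1 ha0) y hy
        obtain ⟨d, hd, hd'⟩ := htr (ψ a / ψ x) (div_ne_zero ha0 hx0)
        have hdx := (mem_normalizer_iff.1 hd x).1 hx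
        have he : ψ (d * x * d⁻¹) = ψ a := by rw [hd' x hx, div_mul_cancel₀ _ hx0]
        have hw := c.diff hdx ha he
        have hwT := mul_mem (inv_mem hdx) ha
        have hy' : d⁻¹ * y * d ∈ T := (mem_normalizer_iff''.1 hd y).1 hy
        have hc : d * x * d⁻¹ * y = y * (d * x * d⁻¹) :=
          calc d * x * d⁻¹ * y = d * (x * (d⁻¹ * y * d)) * d⁻¹ := by group
            _ = d * ((d⁻¹ * y * d) * x) * d⁻¹ := by rw [hxc _ hy']
            _ = y * (d * x * d⁻¹) := by group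
        calc a * y = d * x * d⁻¹ * (((d * x * d⁻¹)⁻¹ * a) * y) := by group
          _ = d * x * d⁻¹ * y * ((d * x * d⁻¹)⁻¹ * a) := by rw [c.central _ hwT hw y hy]; group
          _ = y * a := by rw [hc]; group
      exact hab (hcen a ha b hb)
  hom := by
    intro h hm h2' h0 hq x₀ hx₀
    have hval : ∀ x ∈ T, ∀ y ∈ T, ψ x = ψ y → h x = h y := fun x hx y hy e => by
      have hw := mul_mem (inv_mem hx) hy
      conv_rhs => rw [show y = x * (x⁻¹ * y) by group, hm x hx _ hw, h0 _ hw (c.diff hx hy e), mul_one]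
    rcases hk with ⟨ν, hν, d, hd, hd1, hd2⟩ | ⟨htr, hnc⟩
    · obtain ⟨x, hx, hψ⟩ := c.surj ((ν - 1)⁻¹ * ψ x₀)
      have hdx := (mem_normalizer_iff.1 hd x).1 hx
      have e : ψ (x⁻¹ * (d * x * d⁻¹)) = ψ x₀ := by
        rw [c.add _ (inv_mem hx) _ hdx, c.map_inv hx, hd1 x hx, hψ,
          show -((ν - 1)⁻¹ * ψ x₀) + ν * ((ν - 1)⁻¹ * ψ x₀) = (ν - 1) * ((ν - 1)⁻¹ * ψ x₀) by ring,
          mul_inv_cancel_left₀ (sub_ne_zero.2 hν)]
      obtain ⟨hz, hz2⟩ := h2' x hx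
      obtain ⟨z, hz', hzz⟩ := c.root _ hz hz2
      have hinvx : h x⁻¹ * h x = 1 := by
        rw [← hm _ (inv_mem hx) _ hx, inv_mul_cancel, h0 1 (one_mem _) (one_mul 1)]
      rw [← hval _ (mul_mem (inv_mem hx) hdx) _ hx₀ e, hm _ (inv_mem hx) _ hdx, hq d hd x hx, ← hzz,
        hd2 z hz', hzz, hinvx]
    · by_contra hne
      obtain ⟨hz, hz2⟩ := h2' x₀ hx₀
      obtain ⟨y₀, hy₀, hyy⟩ := c.root _ hz hz2
      have ha : ψ x₀ ≠ 0 := fun e => hne (h0 x₀ hx₀ ((c.zero _ hx₀).1 e))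
      have hb : ψ y₀ ≠ 0 := fun e => hne (by rw [← hyy, (c.zero _ hy₀).1 e])
      have key : ∀ x ∈ T, ∀ x' ∈ T, ψ x' * ψ y₀ = ψ x₀ * ψ x → x * x = h x' := by
        intro x hx x' hx' e
        by_cases hx0 : ψ x = 0
        · rw [(c.zero x hx).1 hx0]
          rw [hx0, mul_zero, mul_eq_zero] at e
          exact (h0 x' hx' ((c.zero x' hx').1 (e.resolve_right hb))).symm
        obtain ⟨d, hd, hd'⟩ := htr (ψ x / ψ y₀) (div_ne_zero hx0 hb)
        have h1x := (mem_normalizer_iff.1 hd _).1 hy₀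
        have h2x := (mem_normalizer_iff.1 hd _).1 hx₀
        have e1 : ψ (d * y₀ * d⁻¹) = ψ x := by rw [hd' _ hy₀, div_mul_cancel₀ _ hb]
        have e2 : ψ (d * x₀ * d⁻¹) = ψ x' := by
          rw [hd' _ hx₀]; field_simp; linear_combination -e
        rw [← c.sq_eq h1x hx e1, ← hval _ h2x _ hx' e2, hq d hd _ hx₀, ← hyy]
        group
      have hsqhom : ∀ x ∈ T, ∀ y ∈ T, x * y * (x * y) = x * x * (y * y) := by
        intro x hx y hy
        obtain ⟨x', hx', hψx⟩ := c.surj (ψ x₀ * ψ x / ψ y₀)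
        obtain ⟨y', hy', hψy⟩ := c.surj (ψ x₀ * ψ y / ψ y₀)
        rw [key x hx x' hx' (by rw [hψx, div_mul_cancel₀ _ hb]),
          key y hy y' hy' (by rw [hψy, div_mul_cancel₀ _ hb]), ← hm x' hx' y' hy']
        refine key _ (mul_mem hx hy) _ (mul_mem hx' hy') ?_
        rw [c.add _ hx' _ hy', c.add _ hx _ hy, hψx, hψy]
        field_simp
      obtain ⟨a, hxa, b, hyb, hab⟩ := hnc
      have hs := hsqhom a hxa b hyb
      refine hab (mul_left_cancel (a := a) (mul_right_cancel (b := b) ?_))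
      calc a * (a * b) * b = a * a * (b * b) := by group
        _ = a * b * (a * b) := hs.symm
        _ = a * (b * a) * b := by group

end Cfsg.Agent.GoldStruct
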