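import Cfsg.Agent.Lib.GoldStruct.Socle
import Mathlib.GroupTheory.SchurZassenhaus
import Mathlib.GroupTheory.Transfer

/-!
A group without odd normal subgroups generated by the conjugates of a strongly closed abelian 2-subgroup:
the 2-core is central and contained in that subgroup.
-/

set_option autoImplicit false
set_option linter.unusedSectionVars false
set_option linter.style.haveILetI false

namespace Cfsg.Agent.GoldStruct

open Subgroup

universe u

variable {Q : Type u} [Group Q] [Finite Q] {T : Sylow 2 Q} {A R : Subgroup Q}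

theorem normal_two_le (T : Sylow 2 Q) (hRn : R.Normal) (hR : IsPGroup 2 R) : R ≤ (T : Subgroup Q) := by
  haveI : Fact (Nat.Prime 2) := ⟨Nat.prime_two⟩
  obtain ⟨P, hP⟩ := hR.exists_le_sylow
  obtain ⟨g, rfl⟩ := MulAction.exists_smul_eq Q P T
  intro r hr
  exact ⟨g⁻¹ * r * g, hP (by simpa using hRn.conj_mem r hr g⁻¹), by simp [mul_assoc]⟩

/-- The inverse image of a Sylow 2-subgroup modulo a normal 2-subgroup. -/
theorem mem_of_mk_mem [hRn : R.Normal] (hR : IsPGroup 2 R) {x : Q}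
    (h : QuotientGroup.mk' R x ∈ (T : Subgroup Q).map (QuotientGroup.mk' R)) : x ∈ (T : Subgroup Q) := by
  obtain ⟨t, ht, e⟩ := h
  have := (QuotientGroup.eq).1 e
  rw [show x = t * (t⁻¹ * x) by group]
  exact mul_mem ht (normal_two_le T hRn hR this)

variable [hRn : R.Normal]

/-- The intersection with the normal 2-subgroup is central, and the commutators with it lie in `A`. -/
theorem inf_central (h : SC T A) (hgen : normalClosure (A : Set Q) = ⊤) (hR : IsPGroup 2 R) :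
    (A ⊓ R).Normal ∧ A ⊓ R ≤ center Q ∧ ∀ q : Q, ∀ r ∈ R, q * r * q⁻¹ * r⁻¹ ∈ A ⊓ R := by
  have hRT := normal_two_le T hRn hR
  have hBn : (A ⊓ R).Normal := ⟨fun b hb g =>
    ⟨h.mem hb.1 (hRT (hRn.conj_mem b hb.2 g)), hRn.conj_mem b hb.2 g⟩⟩
  haveI := hBn
  refine ⟨hBn, ?_, ?_⟩
  · have hle : A ≤ centralizer ((A ⊓ R : Subgroup Q) : Set Q) := fun a ha =>
      mem_centralizer_iff.2 fun b hb => h.comm b hb.1 a ha
    have htop := eq_top_iff.1 (eq_top_iff.2 (hgen ▸ normalClosure_le_normal hle))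
    intro b hb
    rw [mem_center_iff]
    intro g
    exact (mem_centralizer_iff.1 (htop (mem_top g)) b hb).symm
  · let f := QuotientGroup.mk' (A ⊓ R)
    haveI : (R.map f).Normal := hRn.map f (QuotientGroup.mk'_surjective _)
    have hle : A ≤ (centralizer ((R.map f : Subgroup _) : Set (Q ⧸ (A ⊓ R)))).comap f := fun a ha => by
      rw [mem_comap, mem_centralizer_iff]
      rintro _ ⟨r, hr, rfl⟩
      rw [← map_mul, ← map_mul]
      refine (QuotientGroup.eq).2 ⟨?_, ?_⟩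
      · show _ ∈ A
        rw [show (r * a)⁻¹ * (a * r) = a⁻¹ * (r⁻¹ * a * r) by group]
        refine mul_mem (inv_mem ha) ?_
        simpa using (mem_normalizer_iff.1 (h.sylow_le_normalizer (inv_mem (hRT hr))) a).1 ha
      · show _ ∈ R
        rw [show (r * a)⁻¹ * (a * r) = a⁻¹ * r⁻¹ * a * r by group]
        exact mul_mem (by simpa using hRn.conj_mem r⁻¹ (inv_mem hr) a⁻¹) hr
    have htop := eq_top_iff.2 (hgen ▸ normalClosure_le_normal hle)
    intro q r hr
    have hq : q ∈ (centralizer ((R.map f : Subgroup _) : Set (Q ⧸ (A ⊓ R)))).comap f := htop ▸ mem_top q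
    refine (QuotientGroup.eq_one_iff _).1 ?_
    have := mem_centralizer_iff.1 hq (f r) ⟨r, hr, rfl⟩
    show f (q * r * q⁻¹ * r⁻¹) = 1
    rw [map_mul, map_mul, map_mul, map_inv, map_inv, ← this]
    group

/-- No odd normal subgroup modulo the normal 2-subgroup. -/
theorem quotient_core_bot (hO : ∀ N : Subgroup Q, N.Normal → Odd (Nat.card N) → N = ⊥) (h : SC T A)
    (hgen : normalClosure (A : Set Q) = ⊤) (hR : IsPGroup 2 R) (N : Subgroup (Q ⧸ R)) (hN : N.Normal)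
    (hodd : Odd (Nat.card N)) : N = ⊥ := by
  haveI : Fact (Nat.Prime 2) := ⟨Nat.prime_two⟩
  obtain ⟨hBn, hBc, hcomm⟩ := inf_central h hgen hR
  obtain ⟨k, hk⟩ := IsPGroup.iff_card.1 hR
  set P := N.comap (QuotientGroup.mk' R)
  have hPn : P.Normal := hN.comap _
  have hRP : R ≤ P := fun r hr => by
    rw [mem_comap, QuotientGroup.mk'_apply, (QuotientGroup.eq_one_iff r).2 hr]; exact one_mem _
  -- odd elements centralise `R`
  have hfix : ∀ x : Q, Odd (orderOf x) → ∀ r ∈ R, x * r = r * x := by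
    intro x hx r hr
    set b := x * r * x⁻¹ * r⁻¹ with hb
    have hbB := hcomm x r hr
    have hpow : ∀ i : ℕ, x ^ i * r * (x ^ i)⁻¹ = b ^ i * r := by
      intro i
      induction i with
      | zero => simp
      | succ i ih =>
        rw [pow_succ' x, show x * x ^ i * r * (x * x ^ i)⁻¹ = x * (x ^ i * r * (x ^ i)⁻¹) * x⁻¹ by group, ih,
          show x * (b ^ i * r) * x⁻¹ = (x * b ^ i * x⁻¹) * (x * r * x⁻¹ * r⁻¹) * r by group,
          (mem_center_iff.1 (hBc (pow_mem hbB i)) x), mul_inv_cancel_right, ← hb, ← pow_succ]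
    have h1 := hpow (orderOf x)
    rw [pow_orderOf_eq_one] at h1
    have h2 : b ^ orderOf x = 1 := by simpa using h1.symm
    obtain ⟨j, hj⟩ := hR ⟨b, hbB.2⟩
    have h3 : b ^ 2 ^ j = 1 := congrArg Subtype.val hj
    have h4 := Nat.dvd_gcd (orderOf_dvd_of_pow_eq_one h2) (orderOf_dvd_of_pow_eq_one h3)
    rw [Nat.Coprime.gcd_eq_one (Nat.Coprime.pow_right j (Nat.coprime_two_right.2 hx)), Nat.dvd_one,
      orderOf_eq_one_iff, hb, mul_inv_eq_one, mul_inv_eq_iff_eq_mul] at h4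
    exact h4
  haveI : (R.subgroupOf P).Normal := hRn.subgroupOf P
  have hidx : (R.subgroupOf P).index = Nat.card N := by
    have : (R.subgroupOf P).index = R.relIndex P := rfl
    rw [this, ← Subgroup.card_map_of_injective (f := (MonoidHom.id (Q ⧸ R))) (fun _ _ e => e) (K := N)]
    have e : ((QuotientGroup.mk' R).comp P.subtype).ker = R.subgroupOf P := by
      ext x
      rw [MonoidHom.mem_ker, mem_subgroupOf]
      exact QuotientGroup.eq_one_iff (x : Q)
    have e2 : ((QuotientGroup.mk' R).comp P.subtype).range = N := by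
      rw [MonoidHom.range_comp, range_subtype, map_comap_eq_self_of_surjective (QuotientGroup.mk'_surjective R)]
    rw [Subgroup.map_id, Subgroup.relIndex, ← e, Subgroup.index_ker, e2]
  have hco : Nat.Coprime (Nat.card (R.subgroupOf P)) (R.subgroupOf P).index := by
    rw [hidx, Nat.card_congr (subgroupOfEquivOfLe hRP).toEquiv, hk]
    exact Nat.Coprime.pow_left k (Nat.coprime_two_left.2 hodd)
  obtain ⟨H, hH⟩ := exists_right_complement'_of_coprime hco
  have hHo : ∀ x ∈ H, Odd (orderOf (x : Q)) := fun x hx => by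
    have h1 : orderOf x ∣ Nat.card H := by rw [← Subgroup.orderOf_mk x hx]; exact orderOf_dvd_natCard _
    have h2 : Nat.card H = Nat.card N := hH.symm.index_eq_card.symm.trans hidx
    rw [Subgroup.orderOf_coe]
    exact Odd.of_dvd_nat hodd (h2 ▸ h1)
  have hodd' : ∀ v : Q, v ∈ P → Odd (orderOf v) → v ∈ H.map P.subtype := by
    intro v hvP hv
    obtain ⟨⟨⟨r, hr⟩, ⟨x, hx⟩⟩, he⟩ := hH.2 ⟨v, hvP⟩
    have he' : (r : Q) * (x : Q) = v := congrArg Subtype.val he
    have hc : Commute (r : Q) (x : Q) := (hfix _ (hHo x hx) _ hr).symm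
    have hr1 : (r : Q) ^ (orderOf v * orderOf (x : Q)) = 1 := by
      have h1 : (v) ^ (orderOf v * orderOf (x : Q)) = 1 := by rw [pow_mul, pow_orderOf_eq_one, one_pow]
      have h2 : (x : Q) ^ (orderOf v * orderOf (x : Q)) = 1 := by
        rw [mul_comm, pow_mul, pow_orderOf_eq_one, one_pow]
      rwa [← he', hc.mul_pow, he', h2, mul_one] at h1
    obtain ⟨j, hj⟩ := hR ⟨r, hr⟩
    have h3 := Nat.dvd_gcd (orderOf_dvd_of_pow_eq_one hr1)
      (orderOf_dvd_of_pow_eq_one (show (r : Q) ^ 2 ^ j = 1 from congrArg Subtype.val hj))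
    rw [Nat.Coprime.gcd_eq_one (Nat.Coprime.pow_right j (Nat.coprime_two_right.2 (hv.mul (hHo x hx)))),
      Nat.dvd_one, orderOf_eq_one_iff] at h3
    exact ⟨x, hx, by rw [← he', h3, one_mul]; rfl⟩
  have hHn : (H.map P.subtype).Normal := ⟨by
    rintro _ ⟨x, hx, rfl⟩ g
    refine hodd' _ (hPn.conj_mem _ x.2 g) ?_
    rw [show g * P.subtype x * g⁻¹ = MulAut.conj g (x : Q) from rfl, MulEquiv.orderOf_eq]
    exact hHo x hx⟩
  have hH1 := hO _ hHn (by
    rw [card_map_of_injective P.subtype_injective, hH.symm.index_eq_card.symm.trans hidx]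
    exact hodd)
  rw [map_eq_bot_iff_of_injective _ P.subtype_injective] at hH1
  rw [← card_eq_one, ← hidx, hH.symm.index_eq_card, hH1, card_bot]

/-- The 2-core is trivial modulo the 2-core. -/
theorem quotient_pCore_bot [(Cfsg.pCore 2 Q).Normal] : Cfsg.pCore 2 (Q ⧸ Cfsg.pCore 2 Q) = ⊥ := by
  haveI : Fact (Nat.Prime 2) := ⟨Nat.prime_two⟩
  haveI := LEBasic.pCore_characteristic (p := 2) (G := Q ⧸ Cfsg.pCore 2 Q)
  have hn : ((Cfsg.pCore 2 (Q ⧸ Cfsg.pCore 2 Q)).comap (QuotientGroup.mk' (Cfsg.pCore 2 Q))).Normal :=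
    inferInstance
  have hp : IsPGroup 2 ((Cfsg.pCore 2 (Q ⧸ Cfsg.pCore 2 Q)).comap (QuotientGroup.mk' (Cfsg.pCore 2 Q))) :=
    LEBasic.pCore_isPGroup.comap_of_ker_isPGroup _ (by rw [QuotientGroup.ker_mk']; exact LEBasic.pCore_isPGroup)
  have hle := LEBasic.le_pCore hn hp
  rw [eq_bot_iff]
  intro y hy
  obtain ⟨x, rfl⟩ := QuotientGroup.mk'_surjective _ y
  exact mem_bot.2 ((QuotientGroup.eq_one_iff x).2 (hle (mem_comap.2 hy)))

/-- The commutators of `T` lie in `A`. -/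
theorem sylow_commutator (h : SC T A) (hgen : normalClosure (A : Set Q) = ⊤) (hR : IsPGroup 2 R)
    [Fact (Nat.Prime 2)]
    (hM : Model (T.mapSurjective (QuotientGroup.mk'_surjective R)) (A.map (QuotientGroup.mk' R))) :
    ∀ x ∈ (T : Subgroup Q), ∀ y ∈ (T : Subgroup Q), x * y * x⁻¹ * y⁻¹ ∈ A := by
  classical
  obtain ⟨hBn, hBc, hcomm⟩ := inf_central h hgen hR
  have hRT := normal_two_le T hRn hR
  obtain ⟨mk, hmk⟩ : ∃ mk : Q →* Q ⧸ R, mk = QuotientGroup.mk' R := ⟨_, rfl⟩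
  have hmks : Function.Surjective mk := hmk ▸ QuotientGroup.mk'_surjective R
  haveI : (A.subgroupOf (T : Subgroup Q)).Normal := normal_subgroupOf_of_le_normalizer h.sylow_le_normalizer
  let W := (T : Subgroup Q) ⧸ A.subgroupOf (T : Subgroup Q)
  let τ : (T : Subgroup Q) →* W := QuotientGroup.mk' _
  have hτR : ∀ (r : Q) (hr : r ∈ R) (w : W), τ ⟨r, hRT hr⟩ * w = w * τ ⟨r, hRT hr⟩ := by
    intro r hr w
    obtain ⟨t, rfl⟩ := QuotientGroup.mk'_surjective _ w
    refine ((commutatorElement_eq_one_iff_mul_comm).1 ?_).symm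
    rw [← map_commutatorElement]
    exact (QuotientGroup.eq_one_iff _).2 (mem_subgroupOf.2 (hcomm (t : Q) r hr).1)
  -- commutators map into the image of `R`
  have hsq : ∀ x ∈ (T : Subgroup Q), ∃ a ∈ A, ∃ r ∈ R, x * x = a * r := by
    intro x hx
    obtain ⟨a, ha, e⟩ := hM.sqT (QuotientGroup.mk' R x) ⟨x, hx, rfl⟩
    rw [← map_mul] at e
    exact ⟨a, ha, a⁻¹ * (x * x), (QuotientGroup.eq).1 e, by group⟩
  have hsqc : ∀ p : W, ∀ w : W, p * p * w = w * (p * p) := by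
    intro p w
    obtain ⟨t, rfl⟩ := QuotientGroup.mk'_surjective _ p
    obtain ⟨a, ha, r, hr, e⟩ := hsq t t.2
    have : τ t * τ t = τ ⟨r, hRT hr⟩ := by
      rw [← map_mul]
      refine ((QuotientGroup.eq).2 ?_).symm
      rw [mem_subgroupOf]
      show r⁻¹ * ((t : Q) * t) ∈ A
      rw [e, show r⁻¹ * (a * r) = r⁻¹ * a * r by group]
      simpa using (mem_normalizer_iff.1 (h.sylow_le_normalizer (inv_mem (hRT hr))) a).1 ha
    rw [show QuotientGroup.mk' _ t * QuotientGroup.mk' _ t = τ ⟨r, hRT hr⟩ from this]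
    exact hτR r hr w
  let c : W → W → W := fun p q => p * q * p⁻¹ * q⁻¹
  have hc0 : ∀ p q : W, c p q = p * p * (p⁻¹ * q * (p⁻¹ * q)) * (q⁻¹ * q⁻¹) := fun p q => by
    simp only [c]; group
  have hc : ∀ p q w : W, c p q * w = w * c p q := fun p q w => by
    rw [hc0]
    exact ((Commute.mul_left (show Commute (p * p) w from hsqc p w)
      (show Commute (p⁻¹ * q * (p⁻¹ * q)) w from hsqc _ w)).mul_left (show Commute (q⁻¹ * q⁻¹) w from hsqc _ w)).eq
  have hcl : ∀ p p' q, c (p * p') q = c p q * c p' q := fun p p' q => by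
    rw [show c (p * p') q = p * c p' q * q * p⁻¹ * q⁻¹ by simp only [c]; group, ← hc p' q p,
      show c p' q * p * q * p⁻¹ * q⁻¹ = c p' q * c p q by simp only [c]; group, hc]
  have hcr : ∀ p q q', c p (q * q') = c p q * c p q' := fun p q q' => by
    rw [show c p (q * q') = p * q * p⁻¹ * c p q' * q⁻¹ by simp only [c]; group, ← hc p q' (p * q * p⁻¹),
      show c p q' * (p * q * p⁻¹) * q⁻¹ = c p q' * c p q by simp only [c]; group, hc]
  have hcR : ∀ (r : Q) (hr : r ∈ R) (w : W), c (τ ⟨r, hRT hr⟩) w = 1 ∧ c w (τ ⟨r, hRT hr⟩) = 1 := fun r hr w => by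
    refine ⟨?_, ?_⟩
    · show _ * w * _ * w⁻¹ = 1
      rw [hτR r hr w]; group
    · show w * _ * w⁻¹ * _ = 1
      rw [← hτR r hr w]; group
  -- a lift
  let σ : Q ⧸ R → (T : Subgroup Q) := fun u =>
    if e : ∃ t : (T : Subgroup Q), mk t = u then e.choose else 1
  have hσ : ∀ u ∈ (T : Subgroup Q).map mk, mk (σ u : Q) = u := fun u hu => by
    obtain ⟨t, ht, e⟩ := hu
    have hex : ∃ t : (T : Subgroup Q), mk t = u := ⟨⟨t, ht⟩, e⟩
    simp only [σ, dif_pos hex]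
    exact hex.choose_spec
  have hlift : ∀ (t : (T : Subgroup Q)) (u : Q ⧸ R), mk t = u → ∀ w : W,
      c (τ t) w = c (τ (σ u)) w ∧ c w (τ t) = c w (τ (σ u)) := by
    intro t u e w
    have hu : u ∈ (T : Subgroup Q).map mk := ⟨t, t.2, e⟩
    have hr : (σ u : Q)⁻¹ * t ∈ R := (QuotientGroup.eq).1 ((hmk ▸ (hσ u hu).trans e.symm :
      QuotientGroup.mk' R (σ u : Q) = QuotientGroup.mk' R t))
    have e' : τ t = τ (σ u) * τ ⟨(σ u : Q)⁻¹ * t, hRT hr⟩ := by
      rw [← map_mul]; exact congrArg τ (Subtype.ext (by simp))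
    refine ⟨?_, ?_⟩
    · rw [e', hcl, (hcR _ hr w).1, mul_one]
    · rw [e', hcr, (hcR _ hr w).2, mul_one]
  let f : Q ⧸ R → Q ⧸ R → Subgroup.center W := fun u v =>
    ⟨c (τ (σ u)) (τ (σ v)), mem_center_iff.2 fun w => (hc _ _ w).symm⟩
  have hmapT : ((T.mapSurjective (QuotientGroup.mk'_surjective R) : Sylow 2 _) : Subgroup (Q ⧸ R)) =
      (T : Subgroup Q).map mk := by rw [hmk]; rfl
  letI : CommGroup (Subgroup.center W) :=
    { (inferInstance : Group (Subgroup.center W)) with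
      mul_comm := fun p q => Subtype.ext (mem_center_iff.1 q.2 p) }
  have hf := hM.pair f ?_ ?_ ?_ ?_
  · intro x hx y hy
    have h1 : c (τ ⟨x, hx⟩) (τ ⟨y, hy⟩) = 1 := by
      rw [(hlift ⟨x, hx⟩ _ rfl _).1, (hlift ⟨y, hy⟩ _ rfl _).2]
      exact congrArg Subtype.val (hf _ (hmapT.symm ▸ ⟨x, hx, rfl⟩) _ (hmapT.symm ▸ ⟨y, hy, rfl⟩))
    simp only [c, ← map_mul, ← map_inv] at h1
    exact mem_subgroupOf.1 ((QuotientGroup.eq_one_iff _).1 h1)
  · intro u hu v hv w _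
    rw [hmapT] at hu hv
    apply Subtype.ext
    show c (τ (σ (u * v))) _ = c (τ (σ u)) _ * c (τ (σ v)) _
    rw [← (hlift (σ u * σ v) (u * v) (by rw [coe_mul, map_mul, hσ u hu, hσ v hv]) _).1, map_mul, hcl]
  · intro u _ v hv w hw
    rw [hmapT] at hv hw
    apply Subtype.ext
    show c _ (τ (σ (v * w))) = c _ (τ (σ v)) * c _ (τ (σ w))
    rw [← (hlift (σ v * σ w) (v * w) (by rw [coe_mul, map_mul, hσ v hv, hσ w hw]) _).2, map_mul, hcr]
  · rintro _ ⟨a, ha, rfl⟩ y _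
    have h1 : τ ⟨a, h.le ha⟩ = 1 := (QuotientGroup.eq_one_iff _).2 ha
    constructor <;> apply Subtype.ext
    · show c (τ (σ _)) _ = 1
      rw [← (hlift ⟨a, h.le ha⟩ _ (by rw [hmk]) _).1, h1]; simp [c]
    · show c _ (τ (σ _)) = 1
      rw [← (hlift ⟨a, h.le ha⟩ _ (by rw [hmk]) _).2, h1]; simp [c]
  · intro d hd u hu v hv
    obtain ⟨q, rfl⟩ := hmks d
    have hqT : ∀ t ∈ (T : Subgroup Q), q * t * q⁻¹ ∈ (T : Subgroup Q) := fun t ht => by
      refine mem_of_mk_mem hR ?_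
      rw [← hmk, map_mul, map_mul, map_inv, ← hmapT]
      exact (mem_normalizer_iff.1 hd _).1 (hmapT.symm ▸ ⟨t, ht, rfl⟩)
    have hqn : q ∈ normalizer ((T : Subgroup Q) : Set Q) := mem_normalizer_fintype hqT
    rw [hmapT] at hu hv
    apply Subtype.ext
    show c (τ (σ (mk q * u * (mk q)⁻¹))) (τ (σ (mk q * v * (mk q)⁻¹))) = c (τ (σ u)) (τ (σ v))
    have e1 : ∀ w ∈ (T : Subgroup Q).map mk, mk ((⟨q * (σ w : Q) * q⁻¹, hqT _ (σ w).2⟩ : (T : Subgroup Q)) : Q) =
        mk q * w * (mk q)⁻¹ := fun w hw => by rw [map_mul, map_mul, map_inv, hσ w hw]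
    rw [← (hlift _ _ (e1 u hu) _).1, ← (hlift _ _ (e1 v hv) _).2]
    -- the commutator is in `A R`
    have hmem : QuotientGroup.mk' R ((σ u : Q) * σ v * (σ u : Q)⁻¹ * (σ v : Q)⁻¹) ∈ A.map (QuotientGroup.mk' R) := by
      obtain ⟨a1, ha1, r1, hr1, e⟩ := hsq _ (σ u).2
      obtain ⟨a2, ha2, r2, hr2, e'⟩ := hsq _ (mul_mem (inv_mem (σ u).2) (σ v).2)
      obtain ⟨a3, ha3, r3, hr3, e''⟩ := hsq _ (inv_mem (σ v).2)
      have hmkA : ∀ a ∈ A, ∀ r ∈ R, QuotientGroup.mk' R (a * r) ∈ A.map (QuotientGroup.mk' R) := fun a ha r hr => by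
        rw [map_mul, show QuotientGroup.mk' R r = 1 from (QuotientGroup.eq_one_iff r).2 hr, mul_one]
        exact ⟨a, ha, rfl⟩
      rw [show (σ u : Q) * σ v * (σ u : Q)⁻¹ * (σ v : Q)⁻¹ =
        (σ u : Q) * σ u * ((σ u : Q)⁻¹ * σ v * ((σ u : Q)⁻¹ * σ v)) * ((σ v : Q)⁻¹ * (σ v : Q)⁻¹) by group,
        e, e', e'', map_mul, map_mul]
      exact mul_mem (mul_mem (hmkA a1 ha1 r1 hr1) (hmkA a2 ha2 r2 hr2)) (hmkA a3 ha3 r3 hr3)
    obtain ⟨a, ha, e⟩ := hmem
    have hr := (QuotientGroup.eq).1 e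
    show _ * _ * _ * _ = c (τ (σ u)) (τ (σ v))
    simp only [c, ← map_mul, ← map_inv]
    refine (QuotientGroup.eq).2 (mem_subgroupOf.2 ?_)
    simp only [coe_mul, coe_inv]
    set K := (σ u : Q) * σ v * (σ u : Q)⁻¹ * (σ v : Q)⁻¹ with hK
    have hKA : q * (a⁻¹ * K) * q⁻¹ * (a⁻¹ * K)⁻¹ ∈ A := (hcomm q _ hr).1
    have hKT : K ∈ (T : Subgroup Q) :=
      mul_mem (mul_mem (mul_mem (σ u).2 (σ v).2) (inv_mem (σ u).2)) (inv_mem (σ v).2)
    have h5 : q * a * q⁻¹ ∈ A := (mem_normalizer_iff.1 (h.normalizer_sylow hqn) a).1 ha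
    have h6 : q * K * q⁻¹ * K⁻¹ ∈ A := by
      rw [show q * K * q⁻¹ * K⁻¹ = q * a * q⁻¹ * (q * (a⁻¹ * K) * q⁻¹ * (a⁻¹ * K)⁻¹) * a⁻¹ by group]
      exact mul_mem (mul_mem h5 hKA) (inv_mem ha)
    have h7 := (mem_normalizer_iff.1 (h.sylow_le_normalizer (inv_mem hKT)) _).1 (inv_mem h6)
    convert (show (q * K * q⁻¹)⁻¹ * K ∈ A from by simpa [mul_assoc] using h7) using 1
    rw [hK]; group

/-- The normal 2-subgroup lies in `A`. -/
theorem le_of_commutator (h : SC T A) (hgen : normalClosure (A : Set Q) = ⊤) (hR : IsPGroup 2 R)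
    (hc : ∀ x ∈ (T : Subgroup Q), ∀ y ∈ (T : Subgroup Q), x * y * x⁻¹ * y⁻¹ ∈ A) : R ≤ A := by
  classical
  haveI : Fact (Nat.Prime 2) := ⟨Nat.prime_two⟩
  obtain ⟨hBn, hBc, hcomm⟩ := inf_central h hgen hR
  haveI := hBn
  have hRT := normal_two_le T hRn hR
  obtain ⟨g0, hg0⟩ : ∃ g0 : Q →* Q ⧸ (A ⊓ R), g0 = QuotientGroup.mk' (A ⊓ R) := ⟨_, rfl⟩
  have hs : Function.Surjective g0 := hg0 ▸ QuotientGroup.mk'_surjective _
  have hmap := h.map g0 hs
  let T' : Subgroup (Q ⧸ (A ⊓ R)) := (T.mapSurjective hs : Sylow 2 _)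
  let A' := (A.map g0).subgroupOf T'
  haveI : A'.Normal := normal_subgroupOf_of_le_normalizer hmap.sylow_le_normalizer
  letI : CommGroup (T' ⧸ A') :=
    { (inferInstance : Group (T' ⧸ A')) with
      mul_comm := fun p q => by
        obtain ⟨⟨_, x, hx, rfl⟩, rfl⟩ := QuotientGroup.mk'_surjective _ p
        obtain ⟨⟨_, y, hy, rfl⟩, rfl⟩ := QuotientGroup.mk'_surjective _ q
        rw [← commutatorElement_eq_one_iff_mul_comm, ← map_commutatorElement]
        refine (QuotientGroup.eq_one_iff _).2 (mem_subgroupOf.2 ⟨x * y * x⁻¹ * y⁻¹, hc x hx y hy, ?_⟩)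
        simp [commutatorElement_def] }
  let φ : T' →* T' ⧸ A' := QuotientGroup.mk' A'
  let V := MonoidHom.transfer φ
  have hA : A ≤ V.ker.comap g0 := by
    intro a ha
    rw [mem_comap, MonoidHom.mem_ker]
    letI : Fintype (Quotient (MulAction.orbitRel (zpowers (g0 a)) ((Q ⧸ (A ⊓ R)) ⧸ T'))) := Fintype.ofFinite _
    show MonoidHom.transfer φ (g0 a) = 1
    rw [MonoidHom.transfer_eq_prod_quotient_orbitRel_zpowers_quot]
    refine Finset.prod_eq_one fun o _ => (QuotientGroup.eq_one_iff _).2 (mem_subgroupOf.2 ?_)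
    show _ ∈ A.map g0
    have hk : ∀ (k : ℕ) (g : Q ⧸ (A ⊓ R)), g⁻¹ * g0 a ^ k * g ∈ T' → g⁻¹ * g0 a ^ k * g ∈ A.map g0 :=
      fun k g hg => by
        have h2 := hmap.mem (pow_mem (show g0 a ∈ A.map g0 from ⟨a, ha, rfl⟩) k) (g := g⁻¹)
          (by rw [inv_inv]; exact hg)
        rwa [inv_inv] at h2
    exact hk _ _ (QuotientGroup.out_conj_pow_minimalPeriod_mem T' (g0 a) o.out)
  have hV : ∀ r ∈ R, g0 r ∈ A.map g0 := by
    intro r hr
    have htop := eq_top_iff.2 (hgen ▸ normalClosure_le_normal hA)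
    have hr0 : V (g0 r) = 1 := MonoidHom.mem_ker.1 (show r ∈ V.ker.comap g0 from htop ▸ mem_top r)
    have hcen : g0 r ∈ Subgroup.center (Q ⧸ (A ⊓ R)) := mem_center_iff.2 fun y => by
      obtain ⟨q, rfl⟩ := hs y
      rw [← map_mul, ← map_mul, hg0]
      refine (QuotientGroup.eq).2 ?_
      have := hBn.conj_mem _ (hcomm q⁻¹ r hr) r⁻¹
      simpa [mul_assoc] using this
    have key : ∀ (k : ℕ) (g : Q ⧸ (A ⊓ R)), g⁻¹ * g0 r ^ k * g ∈ T' → g⁻¹ * g0 r ^ k * g = g0 r ^ k :=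
      fun k g _ => by
        rw [mul_assoc, ← mem_center_iff.1 (pow_mem hcen k) g, inv_mul_cancel_left]
    rw [show V (g0 r) = φ ⟨g0 r ^ T'.index, MonoidHom.transfer_eq_pow_aux (g0 r) key⟩ from
      MonoidHom.transfer_eq_pow φ (g0 r) key, QuotientGroup.mk'_apply, QuotientGroup.eq_one_iff, mem_subgroupOf] at hr0
    have hodd : Odd T'.index := Nat.not_even_iff_odd.1 fun he =>
      (T.mapSurjective hs).not_dvd_index (even_iff_two_dvd.1 he)
    obtain ⟨j, hj⟩ := (hR.map g0) ⟨g0 r, r, hr, rfl⟩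
    have hj' : g0 r ^ 2 ^ j = 1 := congrArg Subtype.val hj
    have hb := Nat.gcd_eq_gcd_ab T'.index (2 ^ j)
    rw [Nat.Coprime.gcd_eq_one (Nat.Coprime.pow_right j (Nat.coprime_two_right.2 hodd))] at hb
    have e : g0 r = (g0 r ^ T'.index) ^ Nat.gcdA T'.index (2 ^ j) := by
      conv_lhs => rw [← zpow_one (g0 r), show (1 : ℤ) = ((1 : ℕ) : ℤ) from rfl, hb]
      rw [zpow_add, zpow_mul, zpow_mul, zpow_natCast, zpow_natCast, hj', one_zpow, mul_one]
    rw [e]
    exact zpow_mem hr0 _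
  intro r hr
  obtain ⟨a, ha, e⟩ := hV r hr
  rw [hg0] at e
  have h1 := ((QuotientGroup.eq).1 e).1
  rw [show r = a * (a⁻¹ * r) by group]
  exact mul_mem ha h1

end Cfsg.Agent.GoldStruct
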