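import Cfsg.Agent.Lib.GoldStruct.Kind
import Cfsg.Agent.Lib.Fusion.Sylow
import Cfsg.Agent.Lib.SEMain.Proof
import Mathlib.Algebra.Group.Subgroup.Finite

/-!
A strongly closed abelian 2-subgroup meeting a simple normal subgroup with trivial centraliser lies in it.
-/

set_option autoImplicit false
set_option linter.unusedSectionVars false
set_option linter.style.haveILetI false

namespace Cfsg.Agent.GoldStruct

open Subgroup

universe u v

variable {Y : Type u} [Group Y] [Finite Y]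

theorem exists_involution {P : Subgroup Y} (hP : IsPGroup 2 P) (hne : P ≠ ⊥) :
    ∃ w ∈ P, orderOf w = 2 := by
  haveI : Fact (Nat.Prime 2) := ⟨Nat.prime_two⟩
  obtain ⟨k, hk⟩ := IsPGroup.iff_card.1 hP
  have hk0 : k ≠ 0 := fun e => hne (card_eq_one.1 (by rw [hk, e, pow_zero]))
  obtain ⟨w, hw⟩ := exists_prime_orderOf_dvd_card' (G := P) 2 (hk ▸ dvd_pow_self 2 hk0)
  exact ⟨w, w.2, by rw [Subgroup.orderOf_coe, hw]⟩

theorem sylow_inf (P : Sylow 2 Y) {N : Subgroup Y} (hN : N.Normal) :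
    ∃ R : Sylow 2 N, (R : Subgroup N) = ((P : Subgroup Y) ⊓ N).subgroupOf N := by
  haveI : Fact (Nat.Prime 2) := ⟨Nat.prime_two⟩
  haveI := hN
  have h := (FusionSys.isSyl_sylow P).inf_normal (C := N) le_top
    (le_of_le_of_eq le_top (normalizer_eq_top N).symm)
  obtain ⟨R, hR⟩ := h.toSylow
  exact ⟨R, hR⟩

/-- A normal subgroup with trivial centraliser is met by every non-trivial normal subgroup. -/
theorem odd_normal_bot {N : Subgroup Y} (hN : N.Normal) (hs : IsSimpleGroup N)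
    (hev : ∃ w ∈ N, orderOf w = 2) (hC : centralizer (N : Set Y) = ⊥) (M : Subgroup Y) (hM : M.Normal)
    (hodd : Odd (Nat.card M)) : M = ⊥ := by
  haveI := hN; haveI := hM; haveI := hs
  rcases ((inferInstance : (M.subgroupOf N).Normal)).eq_bot_or_eq_top with h | h
  · rw [eq_bot_iff, ← hC]
    intro x hx
    rw [mem_centralizer_iff]
    intro n hn
    have hd : Disjoint N M := by
      rw [disjoint_iff, inf_comm]
      exact (subgroupOf_eq_bot.1 h).eq_bot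
    exact (commute_of_normal_of_disjoint N M hN hM hd n x hn hx).eq
  · exfalso
    obtain ⟨w, hwN, hw⟩ := hev
    exact Nat.not_even_iff_odd.2 hodd (even_iff_two_dvd.2 (hw ▸ orderOf_dvd_natCard M
      (subgroupOf_eq_top.1 h hwN)))

variable {P : Sylow 2 Y} {A N : Subgroup Y}

/-- What is known about `N`, with `A ⊓ N` exactly the involutions of a Sylow 2-subgroup. -/
structure InSimple (P : Sylow 2 Y) (A N : Subgroup Y) : Prop where
  gold : Cfsg.IsGoldschmidtGroup N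
  one : OneClass N
  bend : ∀ T : Sylow 2 N, Bend.{u, v} (T : Subgroup N)
  inv : ∀ x ∈ N, x ∈ (P : Subgroup Y) → (x * x = 1 ↔ x ∈ A)

theorem inSimple (h1 : GoldGroups.ClosedAbelianSimple.{u}) (hW : GoldGroups.WalterGood.{u})
    (hNF : GoldGroups.RJNoField.{u}) (h : SC P A) (hN : N.Normal)
    (hs : IsSimpleGroup N) (hna : ¬ IsMulCommutative N) (hAN : A ⊓ N ≠ ⊥) : InSimple.{u, v} P A N := by
  haveI : Fact (Nat.Prime 2) := ⟨Nat.prime_two⟩
  haveI := hs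
  obtain ⟨R, hR⟩ := sylow_inf P hN
  have hsc : SC R (A.subgroupOf N) := by
    refine ⟨fun a ha b hb => Subtype.ext (h.comm a ha b hb), ?_, fun a ha g hg => ?_⟩
    · rw [hR]
      exact fun a ha => ⟨h.le ha, a.2⟩
    · rw [hR] at hg
      exact h.mem (a := (a : Y)) ha (g := (g : Y)) hg.1
  have hne : A.subgroupOf N ≠ ⊥ := fun e => hAN (subgroupOf_eq_bot.1 e).eq_bot
  obtain ⟨hG, hO, hB⟩ : Cfsg.IsGoldschmidtGroup N ∧ OneClass N ∧ ∀ T : Sylow 2 N, Bend.{u, v} (T : Subgroup N) := by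
    rcases h1 N R (A.subgroupOf N) hne hsc.isMulCommutative hsc.closed with hab | ⟨H, hH⟩
    · have hab' : ∀ T : Sylow 2 N, IsMulCommutative (T : Subgroup N) := fun T =>
        ⟨⟨fun a b => by
          haveI := hab
          exact (Sylow.equiv T R).injective (by rw [map_mul, map_mul, mul_comm'])⟩⟩
      exact abelian_kind hW hNF hna hab'
    · refine ⟨GoldGroups.gold_of_se hH, fun a b ha hb => Invol.se_isConj hH ha hb, ?_⟩
      rcases SEMain.bender_of_simple SEMain.stmt hH with ⟨F, i1, i2, ⟨n, hn, hF⟩, ⟨e⟩⟩ | hz |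
        ⟨F, i1, i2, n, hn, hF, ⟨e⟩⟩
      · haveI : CharP F 2 := charP_of_card_eq_prime_pow hF
        refine fun T => bend_of_elementary fun x hx => e.injective ?_
        obtain ⟨k, hk⟩ := T.2 ⟨x, hx⟩
        have hk' : x ^ 2 ^ k = 1 := congrArg Subtype.val hk
        rw [map_mul, map_one]
        exact UType.psl_two_sq _ (k := k) (by rw [← map_pow, hk', map_one])
      · exact bend_sz hz
      · exact bend_psu hn hF e
  refine ⟨hG, hO, hB, fun x hxN hxP => ⟨fun hx => ?_, fun hxA => ?_⟩⟩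
  · by_cases hx1 : x = 1
    · exact hx1 ▸ one_mem A
    obtain ⟨w, hwA, hw⟩ := exists_involution (h.isPGroup.to_le inf_le_left) hAN
    have e1 : orderOf (⟨x, hxN⟩ : N) = 2 := by
      rw [Subgroup.orderOf_mk]; exact orderOf_eq_prime (by rw [pow_two, hx]) hx1
    obtain ⟨g, hg⟩ := isConj_iff.1 (hO ⟨w, hwA.2⟩ ⟨x, hxN⟩ (by rw [Subgroup.orderOf_mk]; exact hw) e1)
    have e2 : (g : Y) * w * (g : Y)⁻¹ = x := congrArg Subtype.val hg
    exact e2 ▸ h.mem hwA.1 (e2.symm ▸ hxP)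
  · by_contra hx
    have hR' : (⟨x, hxN⟩ : N) ∈ (R : Subgroup N) := by rw [hR]; exact ⟨hxP, hxN⟩
    obtain ⟨d, hd, hne'⟩ := (hB R).nocomm ⟨x, hxN⟩ hR' (fun e => hx (congrArg Subtype.val e))
    have hdx := (mem_normalizer_iff.1 hd _).1 hR'
    rw [hR] at hdx
    refine hne' (Subtype.ext ?_)
    exact h.comm x hxA _ (h.mem hxA hdx.1)

/-- An element of `A` centralises the Sylow 2-subgroup of `N`. -/
theorem centralizes (h : SC P A) (hN : N.Normal) (hsup : N ⊔ A = ⊤) (hi : InSimple.{u, v} P A N)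
    {a x : Y} (ha : a ∈ A) (hxP : x ∈ (P : Subgroup Y)) (hxN : x ∈ N) : a * x = x * a := by
  haveI : Fact (Nat.Prime 2) := ⟨Nat.prime_two⟩
  haveI := hN
  obtain ⟨R, hR⟩ := sylow_inf P hN
  have memR : ∀ z : N, z ∈ (R : Subgroup N) ↔ (z : Y) ∈ (P : Subgroup Y) := fun z => by
    rw [hR]; exact ⟨fun h => h.1, fun h => ⟨h, z.2⟩⟩
  have hB := hi.bend R
  have omA : ∀ {z : Y}, z ∈ N → z ∈ (P : Subgroup Y) → z * z = 1 → z ∈ A := fun hzN hzP => (hi.inv _ hzN hzP).1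
  have cA : ∀ {z : Y}, z ∈ N → z ∈ (P : Subgroup Y) → z * z = 1 → ∀ y ∈ N, y ∈ (P : Subgroup Y) → z * y = y * z := by
    intro z hzN hzP hz y hyN hyP
    exact congrArg Subtype.val (hB.central ⟨z, hzN⟩ ((memR _).2 hzP) (Subtype.ext hz) ⟨y, hyN⟩ ((memR _).2 hyP))
  have hPn : ∀ p ∈ (P : Subgroup Y), ∀ z, z ∈ (P : Subgroup Y) → z ∈ N →
      p * z * p⁻¹ ∈ (P : Subgroup Y) ∧ p * z * p⁻¹ ∈ N :=
    fun p hp z hz hzN => ⟨mul_mem (mul_mem hp hz) (inv_mem hp), hN.conj_mem z hzN p⟩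
  have hcomm : ∀ a ∈ A, ∀ z ∈ N, z ∈ (P : Subgroup Y) →
      a * z * a⁻¹ * z⁻¹ ∈ A ∧ a * z * a⁻¹ * z⁻¹ ∈ N ∧ a * z * a⁻¹ * z⁻¹ ∈ (P : Subgroup Y) ∧
        a * z * a⁻¹ * z⁻¹ * (a * z * a⁻¹ * z⁻¹) = 1 := by
    intro a ha z hzN hzP
    have hA : a * z * a⁻¹ * z⁻¹ ∈ A := by
      rw [show a * z * a⁻¹ * z⁻¹ = a * (z * a⁻¹ * z⁻¹) by group]
      exact mul_mem ha ((mem_normalizer_iff.1 (h.sylow_le_normalizer hzP) _).1 (inv_mem ha))
    have hNn : a * z * a⁻¹ * z⁻¹ ∈ N := mul_mem (hN.conj_mem z hzN a) (inv_mem hzN)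
    exact ⟨hA, hNn, h.le hA, (hi.inv _ hNn (h.le hA)).2 hA⟩
  obtain ⟨H, hHdef⟩ : ∃ H : N → N, ∀ z, (H z : Y) = a * (z : Y) * a⁻¹ * (z : Y)⁻¹ :=
    ⟨fun z => ⟨a * (z : Y) * a⁻¹ * (z : Y)⁻¹, mul_mem (hN.conj_mem (z : Y) z.2 a) (inv_mem z.2)⟩, fun _ => rfl⟩
  suffices hh : H ⟨x, hxN⟩ = 1 by
    have := congrArg Subtype.val hh
    rw [hHdef, coe_one, mul_inv_eq_one, mul_inv_eq_iff_eq_mul] at this
    exact this
  rcases hB.roots with hel | hroot
  · have := omA hxN hxP (congrArg Subtype.val (hel ⟨x, hxN⟩ ((memR _).2 hxP)))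
    refine Subtype.ext ?_
    rw [hHdef, coe_one, h.comm a ha x this]
    group
  refine hB.hom H ?_ ?_ ?_ ?_ ⟨x, hxN⟩ ((memR _).2 hxP)
  · intro z hz y hy
    obtain ⟨-, h2, h3, h4⟩ := hcomm a ha y y.2 ((memR _).1 hy)
    refine Subtype.ext ?_
    rw [coe_mul, hHdef, hHdef, hHdef, coe_mul]
    calc a * ((z : Y) * y) * a⁻¹ * ((z : Y) * y)⁻¹
        = a * z * a⁻¹ * ((a * y * a⁻¹ * (y : Y)⁻¹) * (z : Y)⁻¹) := by group
      _ = a * z * a⁻¹ * ((z : Y)⁻¹ * (a * y * a⁻¹ * (y : Y)⁻¹)) := by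
          rw [cA h2 h3 h4 _ (inv_mem z.2) (inv_mem ((memR _).1 hz))]
      _ = _ := by group
  · intro z hz
    obtain ⟨-, -, h3, h4⟩ := hcomm a ha z z.2 ((memR _).1 hz)
    exact ⟨(memR _).2 (by rw [hHdef]; exact h3), Subtype.ext (by rw [coe_mul, hHdef, coe_one]; exact h4)⟩
  · intro z hz hz2
    refine Subtype.ext ?_
    rw [hHdef, coe_one, h.comm a ha _ (omA z.2 ((memR _).1 hz) (congrArg Subtype.val hz2))]
    group
  -- the action of the normaliser is realised by elements normalising the Sylow subgroup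
  intro d hd z hz
  obtain ⟨W, hWdef⟩ : ∃ W : Subgroup Y, W = normalizer (((P : Subgroup Y) ⊓ N : Subgroup Y) : Set Y) := ⟨_, rfl⟩
  have hW : ∀ w ∈ W, ∀ y, y ∈ (P : Subgroup Y) → y ∈ N → w * y * w⁻¹ ∈ (P : Subgroup Y) ∧ w * y * w⁻¹ ∈ N :=
    fun w hw y hyP hyN => (mem_normalizer_iff.1 (hWdef ▸ hw) y).1 (Subgroup.mem_inf.2 ⟨hyP, hyN⟩)
  obtain ⟨W0, hW0⟩ : ∃ W0 : Subgroup Y, ∀ w, w ∈ W0 ↔ w ∈ W ∧ ∀ y, y ∈ (P : Subgroup Y) → y ∈ N →
      w * y * w⁻¹ * y⁻¹ * (w * y * w⁻¹ * y⁻¹) = 1 := by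
    refine ⟨{ carrier := {w | w ∈ W ∧ ∀ y, y ∈ (P : Subgroup Y) → y ∈ N →
          w * y * w⁻¹ * y⁻¹ * (w * y * w⁻¹ * y⁻¹) = 1}
              one_mem' := ⟨one_mem _, fun y _ _ => by simp⟩
              mul_mem' := ?_
              inv_mem' := ?_ }, fun w => Iff.rfl⟩
    · rintro w w' ⟨hw, hw1⟩ ⟨hw', hw1'⟩
      refine ⟨mul_mem hw hw', fun y hyP hyN => ?_⟩
      obtain ⟨hP', hN'⟩ := hW w' hw' y hyP hyN
      obtain ⟨hP'', hN''⟩ := hW w hw _ hP' hN'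
      have i1 := mul_mem hP'' (inv_mem hP')
      have i1' := mul_mem hN'' (inv_mem hN')
      have i2 := mul_mem hP' (inv_mem hyP)
      have i2' := mul_mem hN' (inv_mem hyN)
      rw [show w * w' * y * (w * w')⁻¹ * y⁻¹ =
        (w * (w' * y * w'⁻¹) * w⁻¹ * (w' * y * w'⁻¹)⁻¹) * (w' * y * w'⁻¹ * y⁻¹) by group]
      have hc := cA i1' i1 (hw1 _ hP' hN') _ i2' i2
      calc _ = (w * (w' * y * w'⁻¹) * w⁻¹ * (w' * y * w'⁻¹)⁻¹ * (w * (w' * y * w'⁻¹) * w⁻¹ * (w' * y * w'⁻¹)⁻¹)) *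
            (w' * y * w'⁻¹ * y⁻¹ * (w' * y * w'⁻¹ * y⁻¹)) := by
            rw [show ∀ p q : Y, p * q * (p * q) = p * (q * p) * q from fun p q => by group, ← hc]
            group
        _ = 1 := by rw [hw1 _ hP' hN', hw1' y hyP hyN, one_mul]
    · rintro w ⟨hw, hw1⟩
      refine ⟨inv_mem hw, fun y hyP hyN => ?_⟩
      obtain ⟨hP', hN'⟩ := hW w⁻¹ (inv_mem hw) y hyP hyN
      have h2 := hw1 _ hP' hN'
      have e2 : w⁻¹ * y * w⁻¹⁻¹ * y⁻¹ = (w * (w⁻¹ * y * w⁻¹⁻¹) * w⁻¹ * (w⁻¹ * y * w⁻¹⁻¹)⁻¹)⁻¹ := by group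
      rw [e2, ← mul_inv_rev, h2, inv_one]
  have hRW0 : (P : Subgroup Y) ⊓ N ≤ W0 := by
    intro t ht
    refine (hW0 t).2 ⟨hWdef ▸ le_normalizer ht, fun y hyP hyN => ?_⟩
    -- the commutator is a product of squares
    have sqc : ∀ {u : Y}, u ∈ N → u ∈ (P : Subgroup Y) → u * u * (u * u) = 1 := fun huN huP =>
      congrArg Subtype.val (hB.sq ⟨_, huN⟩ ((memR _).2 huP))
    have s1N := mul_mem ht.2 hyN
    have s1P := mul_mem ht.1 hyP
    have s2N := mul_mem (mul_mem (inv_mem hyN) (inv_mem ht.2)) hyN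
    have s2P := mul_mem (mul_mem (inv_mem hyP) (inv_mem ht.1)) hyP
    have s3N := inv_mem hyN
    have s3P := inv_mem hyP
    rw [show t * y * t⁻¹ * y⁻¹ =
      t * y * (t * y) * (y⁻¹ * t⁻¹ * y * (y⁻¹ * t⁻¹ * y)) * (y⁻¹ * y⁻¹) by group]
    have c1 := cA (mul_mem s2N s2N) (mul_mem s2P s2P) (sqc s2N s2P)
    have c2 := cA (mul_mem s1N s1N) (mul_mem s1P s1P) (sqc s1N s1P)
    have d1 := c1 _ (mul_mem s1N s1N) (mul_mem s1P s1P)
    generalize hp : t * y * (t * y) = p at c2 d1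
    generalize hq : y⁻¹ * t⁻¹ * y * (y⁻¹ * t⁻¹ * y) = q at c1 d1
    generalize hr : y⁻¹ * y⁻¹ = r
    have d2 : p * r = r * p := c2 r (hr ▸ mul_mem s3N s3N) (hr ▸ mul_mem s3P s3P)
    have d3 : q * r = r * q := c1 r (hr ▸ mul_mem s3N s3N) (hr ▸ mul_mem s3P s3P)
    have hp2 : p * p = 1 := hp ▸ sqc s1N s1P
    have hq2 : q * q = 1 := hq ▸ sqc s2N s2P
    have hr2 : r * r = 1 := hr ▸ sqc s3N s3P
    have m1 : Commute (p * q) r := Commute.mul_left d2 d3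
    rw [show p * q * r * (p * q * r) = p * q * (r * (p * q)) * r by group, ← m1.eq,
      show p * q * (p * q * r) * r = p * (q * p) * q * (r * r) by group, d1,
      show p * (p * q) * q * (r * r) = p * p * (q * q) * (r * r) by group, hp2, hq2, hr2, one_mul, one_mul]
  have hAW0 : A ≤ W0 := fun b hb => (hW0 b).2 ⟨hWdef ▸ mem_normalizer_fintype (fun y hy =>
    ⟨(hPn b (h.le hb) y hy.1 hy.2).1, (hPn b (h.le hb) y hy.1 hy.2).2⟩), fun y hyP hyN => (hcomm b hb y hyN hyP).2.2.2⟩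
  have hPW0 : (P : Subgroup Y) ≤ W0 := by
    intro p hp
    have hp' : p ∈ N ⊔ A := hsup ▸ mem_top p
    obtain ⟨l, hl, b, hb, rfl⟩ := mem_sup_of_normal_left.1 hp'
    exact mul_mem (hRW0 ⟨(Subgroup.mul_mem_cancel_right _ (h.le hb)).1 hp, hl⟩) (hAW0 hb)
  have hW0W : W0 ≤ W := fun w hw => ((hW0 w).1 hw).1
  have hWn : W ≤ normalizer (W0 : Set Y) := le_normalizer_iff.2 fun w hw w0 hw0 => by
    obtain ⟨hw0W, h0⟩ := (hW0 w0).1 hw0
    refine (hW0 _).2 ⟨mul_mem (mul_mem hw hw0W) (inv_mem hw), fun y hyP hyN => ?_⟩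
    obtain ⟨hP', hN'⟩ := hW w⁻¹ (inv_mem hw) y hyP hyN
    have h2 := h0 _ hP' hN'
    rw [show w * w0 * w⁻¹ * y * (w * w0 * w⁻¹)⁻¹ * y⁻¹ =
      w * (w0 * (w⁻¹ * y * w⁻¹⁻¹) * w0⁻¹ * (w⁻¹ * y * w⁻¹⁻¹)⁻¹) * w⁻¹ by group]
    rw [show ∀ c : Y, w * c * w⁻¹ * (w * c * w⁻¹) = w * (c * c) * w⁻¹ from fun c => by group, h2]
    group
  have hdW : (d : Y) ∈ W := hWdef ▸ mem_normalizer_fintype fun y hy => by
    have := (memR _).1 ((mem_normalizer_iff.1 hd ⟨y, hy.2⟩).1 ((memR _).2 hy.1))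
    exact ⟨this, hN.conj_mem y hy.2 _⟩
  -- the Frattini argument
  obtain ⟨w0, hw0, n, hn, hdn⟩ : ∃ w0 ∈ W0, ∃ n, n ∈ normalizer ((P : Subgroup Y) : Set Y) ∧ (d : Y) = w0 * n := by
    have hm : ((P : Subgroup Y)).map (MulAut.conj (d : Y)).toMonoidHom ≤ W0 := by
      rintro _ ⟨p, hp, rfl⟩
      exact (mem_normalizer_iff.1 (hWn hdW) p).1 (hPW0 hp)
    obtain ⟨c, hc, hle⟩ := LESylow.exists_conj_le_of_le hm (P.2.map _) (P.subtype hPW0)
    refine ⟨c⁻¹, inv_mem hc, c * d, ?_, by group⟩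
    refine mem_normalizer_fintype fun p hp => ?_
    obtain ⟨q, hq, e⟩ := hle ⟨(d : Y) * p * (d : Y)⁻¹, ⟨p, hp, rfl⟩, rfl⟩
    have e' : (q : Y) = c * ((d : Y) * p * (d : Y)⁻¹) * c⁻¹ := e
    rw [show c * (d : Y) * p * (c * (d : Y))⁻¹ = c * ((d : Y) * p * (d : Y)⁻¹) * c⁻¹ by group, ← e']
    exact hq
  obtain ⟨l, hl, a1, ha1, hnl⟩ : ∃ l ∈ N, ∃ a1 ∈ A, n = a1 * l := by
    obtain ⟨a1, ha1, l, hl, e⟩ := mem_sup_of_normal_right.1 (show n ∈ A ⊔ N by rw [sup_comm, hsup]; exact mem_top n)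
    exact ⟨l, hl, a1, ha1, e.symm⟩
  have hlP : l ∈ normalizer ((P : Subgroup Y) : Set Y) := by
    rw [show l = a1⁻¹ * n by rw [hnl]; group]
    exact mul_mem (inv_mem (le_normalizer (h.le ha1))) hn
  have hwa : w0 * a1 ∈ W0 := mul_mem hw0 (hAW0 ha1)
  have hdl : (d : Y) = w0 * a1 * l := by rw [hdn, hnl, mul_assoc]
  have hzP := (memR _).1 hz
  have hl1 : l * (z : Y) * l⁻¹ ∈ (P : Subgroup Y) := (mem_normalizer_iff.1 hlP _).1 hzP
  have hl1N : l * (z : Y) * l⁻¹ ∈ N := hN.conj_mem (z : Y) z.2 l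
  obtain ⟨hwW, hwa'⟩ := (hW0 _).1 hwa
  obtain ⟨hw1, hw1N⟩ := hW _ hwW _ hl1 hl1N
  have homP := mul_mem hw1 (inv_mem hl1)
  have homN := mul_mem hw1N (inv_mem hl1N)
  have homC := cA homN homP (hwa' _ hl1 hl1N)
  have homA := omA homN homP (hwa' _ hl1 hl1N)
  -- the value at the conjugate by `l`
  refine Subtype.ext ?_
  simp only [coe_mul, coe_inv, hHdef]
  rw [hdl]
  obtain ⟨-, hN2, hP2, hsq⟩ := hcomm a ha z z.2 hzP
  have hfix : ∀ {u : Y}, u ∈ N → u ∈ (P : Subgroup Y) → u * u = 1 → w0 * a1 * u * (w0 * a1)⁻¹ = u := by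
    intro u huN huP hu
    obtain ⟨y, hy, hyy⟩ := hroot ⟨u, huN⟩ ((memR _).2 huP) (Subtype.ext hu)
    have hyP := (memR _).1 hy
    have e1 : (y : Y) * y = u := congrArg Subtype.val hyy
    obtain ⟨e2, e2N⟩ := hW _ hwW y hyP y.2
    have h6 := hwa' y hyP y.2
    generalize hom : w0 * a1 * (y : Y) * (w0 * a1)⁻¹ * (y : Y)⁻¹ = om at h6
    have homm : om ∈ (P : Subgroup Y) := hom ▸ mul_mem e2 (inv_mem hyP)
    have hommN : om ∈ N := hom ▸ mul_mem e2N (inv_mem y.2)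
    have h7 := cA hommN homm h6 y y.2 hyP
    rw [← e1, show w0 * a1 * ((y : Y) * y) * (w0 * a1)⁻¹ =
      (w0 * a1 * (y : Y) * (w0 * a1)⁻¹ * (y : Y)⁻¹ * y) * (w0 * a1 * (y : Y) * (w0 * a1)⁻¹ * (y : Y)⁻¹ * y) by group,
      hom, show om * y * (om * y) = om * ((y : Y) * om) * y by group, ← h7,
      show om * (om * (y : Y)) * y = om * om * (y * y) by group, h6, one_mul]
  generalize hg : w0 * a1 = g at hw1 hw1N homP homN homC homA hfix
  generalize hl' : l * (z : Y) * l⁻¹ = u at hl1 hl1N hw1 hw1N homP homN homC homA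
  have e0 : g * l * (z : Y) * (g * l)⁻¹ = g * u * g⁻¹ * u⁻¹ * u := by rw [← hl']; group
  rw [e0]
  generalize hom : g * u * g⁻¹ * u⁻¹ = om at homA homC
  rw [show a * (om * u) * a⁻¹ * (om * u)⁻¹ = (a * om) * u * a⁻¹ * u⁻¹ * om⁻¹ by group, h.comm a ha om homA,
    show om * a * u * a⁻¹ * u⁻¹ * om⁻¹ = om * (a * u * a⁻¹ * u⁻¹) * om⁻¹ by group]
  obtain ⟨-, huN, huP, -⟩ := hcomm a ha u hl1N hl1
  rw [homC _ huN huP, mul_inv_cancel_right]
  -- move `a` through `l`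
  have hla : l⁻¹ * a * l ∈ A := by
    have := (mem_normalizer_iff.1 (h.normalizer_sylow (inv_mem hlP)) a).1 ha
    simpa using this
  have homega : a⁻¹ * (l⁻¹ * a * l) ∈ N := by
    rw [show a⁻¹ * (l⁻¹ * a * l) = (a⁻¹ * l⁻¹ * a) * l by group]
    have := hN.conj_mem l⁻¹ (inv_mem hl) a⁻¹
    exact mul_mem (by simpa using this) hl
  have homegaA : a⁻¹ * (l⁻¹ * a * l) ∈ A := mul_mem (inv_mem ha) hla
  have hw := cA homega (h.le homegaA) ((hi.inv _ homega (h.le homegaA)).2 homegaA) z z.2 hzP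
  have e3 : a * u * a⁻¹ * u⁻¹ = l * (a * (z : Y) * a⁻¹ * (z : Y)⁻¹) * l⁻¹ := by
    rw [← hl']
    calc a * (l * (z : Y) * l⁻¹) * a⁻¹ * (l * (z : Y) * l⁻¹)⁻¹
        = l * a * ((a⁻¹ * (l⁻¹ * a * l)) * z) * (a⁻¹ * (l⁻¹ * a * l))⁻¹ * a⁻¹ * (z : Y)⁻¹ * l⁻¹ := by group
      _ = _ := by rw [hw]; group
  rw [e3, show g * l * (a * (z : Y) * a⁻¹ * (z : Y)⁻¹) * (g * l)⁻¹ = g * (l * (a * (z : Y) * a⁻¹ * (z : Y)⁻¹) * l⁻¹) * g⁻¹ by group]
  exact (hfix (hN.conj_mem _ hN2 l) ((mem_normalizer_iff.1 hlP _).1 hP2) (by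
    rw [show ∀ c : Y, l * c * l⁻¹ * (l * c * l⁻¹) = l * (c * c) * l⁻¹ from fun c => by group, hsq]
    group)).symm

/-- **Innerness.** -/
theorem inner (h : SC P A) (hN : N.Normal) (hs : IsSimpleGroup N) (hna : ¬ IsMulCommutative N)
    (hC : centralizer (N : Set Y) = ⊥) (hsup : N ⊔ A = ⊤) (hAN : A ⊓ N ≠ ⊥)
    (hi : InSimple.{u, v} P A N) : N = ⊤ := by
  classical
  haveI : Fact (Nat.Prime 2) := ⟨Nat.prime_two⟩
  haveI := hN; haveI := hs
  obtain ⟨R, hR⟩ := sylow_inf P hN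
  by_contra hne
  have hAle : ¬ A ≤ N := fun hle => hne (by rw [← hsup, sup_eq_left.2 hle])
  obtain ⟨a, ha, haN⟩ := SetLike.not_le_iff_exists.1 hAle
  obtain ⟨w, hwAN, hw⟩ := exists_involution (h.isPGroup.to_le inf_le_left) hAN
  have hev : ∃ w ∈ N, orderOf w = 2 := ⟨w, hwAN.2, hw⟩
  letI : CommGroup A := { (inferInstance : Group A) with mul_comm := fun x y => Subtype.ext (h.comm x x.2 y y.2) }
  set N0 : Subgroup Y := normalizer (A : Set Y) ⊓ N
  set K : Subgroup N0 := (centralizer ({a} : Set Y)).subgroupOf N0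
  letI : Fintype (N0 ⧸ K) := Fintype.ofFinite _
  have hmem : ∀ n : N0, (n : Y) * a * (n : Y)⁻¹ ∈ A := fun n => (mem_normalizer_iff.1 n.2.1 a).1 ha
  let F : N0 ⧸ K → A := fun q => Quotient.liftOn' q (fun n => ⟨(n : Y) * a * (n : Y)⁻¹, hmem n⟩) (by
    intro x y hxy
    rw [QuotientGroup.leftRel_apply, mem_subgroupOf, mem_centralizer_singleton_iff] at hxy
    apply Subtype.ext
    calc (x : Y) * a * (x : Y)⁻¹ = x * (a * (((x⁻¹ * y : N0) : Y))) * (y : Y)⁻¹ := by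
          simp only [coe_mul, coe_inv]; group
      _ = (y : Y) * a * (y : Y)⁻¹ := by rw [← hxy]; simp only [coe_mul, coe_inv]; group)
  set b : A := ∏ q, F q
  have hfix : ∀ n ∈ N0, (n : Y) * b * n⁻¹ = b := by
    intro n hn
    let cj : A →* A := MonoidHom.mk' (fun t => ⟨n * t * n⁻¹, (mem_normalizer_iff.1 hn.1 t).1 t.2⟩)
      (fun x y => Subtype.ext (by simp [mul_assoc]))
    have : cj b = b := by
      rw [map_prod]
      refine Fintype.prod_equiv (MulAction.toPerm (⟨n, hn⟩ : N0)) _ _ fun q => ?_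
      induction q using QuotientGroup.induction_on with
      | _ m =>
        apply Subtype.ext
        show n * ((m : Y) * a * (m : Y)⁻¹) * n⁻¹ = n * (m : Y) * a * (n * (m : Y))⁻¹
        group
    exact congrArg Subtype.val this
  have hmod : QuotientGroup.mk' N (b : Y) = (QuotientGroup.mk' N a) ^ Fintype.card (N0 ⧸ K) := by
    have hq : ∀ q, QuotientGroup.mk' N (F q : Y) = QuotientGroup.mk' N a := by
      intro q
      induction q using QuotientGroup.induction_on with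
      | _ m =>
        show QuotientGroup.mk' N ((m : Y) * a * (m : Y)⁻¹) = _
        rw [map_mul, map_mul, map_inv, show QuotientGroup.mk' N (m : Y) = 1 from (QuotientGroup.eq_one_iff _).2 m.2.2]
        group
    have key : ∀ s : Finset (N0 ⧸ K), QuotientGroup.mk' N ((∏ q ∈ s, F q : A) : Y) = (QuotientGroup.mk' N a) ^ s.card := by
      intro s
      induction s using Finset.induction_on with
      | empty => simp
      | @insert q s hq' ih => rw [Finset.prod_insert hq', coe_mul, map_mul, hq, ih, Finset.card_insert_of_notMem hq', pow_succ']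
    exact key Finset.univ
  have hodd : Odd (Fintype.card (N0 ⧸ K)) := by
    rw [← Nat.card_eq_fintype_card, ← Nat.not_even_iff_odd, even_iff_two_dvd]
    intro hd
    have hle : (P : Subgroup Y) ⊓ N ≤ centralizer ({a} : Set Y) ⊓ N0 := fun x hx =>
      ⟨mem_centralizer_singleton_iff.2 (centralizes h hN hsup hi ha hx.1 hx.2).symm,
        h.sylow_le_normalizer hx.1, hx.2⟩
    have hs' := (FusionSys.isSyl_sylow P).inf_normal (C := N) le_top
      (le_of_le_of_eq le_top (normalizer_eq_top N).symm)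
    refine hs'.2.2 ((hd.trans ?_).trans (dvd_refl _))
    have e : Nat.card (N0 ⧸ K) = (centralizer ({a} : Set Y) ⊓ N0).relIndex N0 := by
      rw [inf_relIndex_right]; rfl
    rw [e]
    calc (centralizer ({a} : Set Y) ⊓ N0).relIndex N0 ∣ ((P : Subgroup Y) ⊓ N).relIndex N0 :=
          relIndex_dvd_of_le_left _ hle
      _ ∣ ((P : Subgroup Y) ⊓ N).relIndex N := Dvd.intro _ (relIndex_mul_relIndex _ N0 N
          (hle.trans inf_le_right) inf_le_right)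
  have hbN : (b : Y) ∉ N := by
    intro hb
    have h1 : (QuotientGroup.mk' N a) ^ Fintype.card (N0 ⧸ K) = 1 := by
      rw [← hmod]; exact (QuotientGroup.eq_one_iff _).2 hb
    obtain ⟨k, hk⟩ := h.isPGroup ⟨a, ha⟩
    have h2 : (QuotientGroup.mk' N a) ^ 2 ^ k = 1 := by
      rw [← map_pow, show a ^ 2 ^ k = 1 from congrArg Subtype.val hk, map_one]
    have h3 := Nat.dvd_gcd (orderOf_dvd_of_pow_eq_one h1) (orderOf_dvd_of_pow_eq_one h2)
    rw [Nat.Coprime.gcd_eq_one (Nat.Coprime.pow_right k (Nat.coprime_two_right.2 hodd)), Nat.dvd_one,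
      orderOf_eq_one_iff] at h3
    exact haN ((QuotientGroup.eq_one_iff a).1 h3)
  -- isolation
  have hfixn : ∀ {c : Y}, c ∈ A → (∀ n ∈ N0, n * c * n⁻¹ = c) → ∀ g : Y, g * c * g⁻¹ ∈ (P : Subgroup Y) → g * c * g⁻¹ = c := by
    intro c hc hcfix g hg
    obtain ⟨n, hn, e⟩ := h.control hc hg
    obtain ⟨l, hl, a1, ha1, rfl⟩ := mem_sup_of_normal_left.1 (hsup ▸ mem_top n : n ∈ N ⊔ A)
    have hln : l ∈ N0 := ⟨(Subgroup.mul_mem_cancel_right _ (le_normalizer ha1)).1 hn, hl⟩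
    rw [e, show l * a1 * c * (l * a1)⁻¹ = l * (a1 * c * a1⁻¹) * l⁻¹ by group, h.comm a1 ha1 c hc,
      mul_inv_cancel_right, hcfix l hln]
  obtain ⟨k, hk⟩ := h.isPGroup b
  have hk' : (b : Y) ^ 2 ^ k = 1 := congrArg Subtype.val hk
  obtain ⟨j, hj, hjN⟩ : ∃ j, (b : Y) ^ 2 ^ j ∉ N ∧ (b : Y) ^ 2 ^ (j + 1) ∈ N := by
    by_contra hall
    simp only [not_exists, not_and] at hall
    have : ∀ j, (b : Y) ^ 2 ^ j ∉ N := by
      intro j
      induction j with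
      | zero => simpa using hbN
      | succ j ih => exact hall j ih
    exact this k (hk' ▸ one_mem N)
  set c : Y := (b : Y) ^ 2 ^ j
  have hcA : c ∈ A := pow_mem b.2 _
  have hcfix : ∀ n ∈ N0, n * c * n⁻¹ = c := fun n hn => by rw [← conj_pow, hfix n hn]
  have hc2 : c * c ∈ N := by rwa [← pow_two, ← pow_mul, ← pow_succ]
  have hc21 : c * c = 1 := by
    by_contra hne'
    have hfix2 : ∀ n ∈ N0, n * (c * c) * n⁻¹ = c * c := fun n hn => by
      rw [show n * (c * c) * n⁻¹ = n * c * n⁻¹ * (n * c * n⁻¹) by group, hcfix n hn]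
    have hiso := hfixn (mul_mem hcA hcA) hfix2
    have ho : orderOf (c * c) = 2 := orderOf_eq_prime (by
      rw [pow_two]; exact (hi.inv _ hc2 (h.le (mul_mem hcA hcA))).2 (mul_mem hcA hcA)) hne'
    have hcen : (⟨c * c, hc2⟩ : N) ∈ center N := by
      refine central_of_isolated (fun M hM hodd => core_bot_of_simple ⟨⟨w, hwAN.2⟩, by rw [Subgroup.orderOf_mk, hw]⟩ M hM hodd)
        R (by rw [Subgroup.orderOf_mk, ho]) ?_ fun g hg => Subtype.ext ?_
      · show (⟨c * c, hc2⟩ : N) ∈ (R : Subgroup N)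
        rw [hR]; exact ⟨h.le (mul_mem hcA hcA), hc2⟩
      · change _ ∈ (R : Subgroup N) at hg
        rw [hR] at hg
        have := hiso (g : Y) hg.1
        simpa using this
    rcases ((center N).normal_of_characteristic).eq_bot_or_eq_top with e | e
    · rw [e, mem_bot] at hcen
      exact hne' (congrArg Subtype.val hcen)
    · exact hna ⟨⟨fun x y => mem_center_iff.1 (e ▸ mem_top y) x⟩⟩
  have hc1 : c ≠ 1 := fun e => hj (e ▸ one_mem N)
  have hcen := central_of_isolated (odd_normal_bot hN hs hev hC) P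
    (orderOf_eq_prime (by rw [pow_two, hc21]) hc1) (h.le hcA) (hfixn hcA hcfix)
  refine hc1 ?_
  rw [← mem_bot, ← hC, mem_centralizer_iff]
  exact fun y _ => mem_center_iff.1 hcen y

end Cfsg.Agent.GoldStruct
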