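import Cfsg.Agent.Lib.GoldStruct.Central
import Cfsg.Prelude.Def_LocalEven

/-!
The structure of the subgroup generated by a strongly closed abelian 2-subgroup (S2775), from the simple
form of Goldschmidt's theorem and the list of the simple groups with abelian Sylow 2-subgroups.
-/

set_option autoImplicit false
set_option linter.unusedSectionVars false
set_option linter.style.haveILetI false

namespace Cfsg.Agent.GoldStruct

open Subgroup
open scoped Pointwise

universe u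

variable {Q : Type u} [Group Q] [Finite Q] {T : Sylow 2 Q} {A : Subgroup Q}

theorem structure_of (h1 : GoldGroups.ClosedAbelianSimple.{u}) (hW : GoldGroups.WalterGood.{u})
    (hNF : GoldGroups.RJNoField.{u}) (hO : ∀ N : Subgroup Q, N.Normal → Odd (Nat.card N) → N = ⊥)
    (h : SC T A) (hgen : normalClosure (A : Set Q) = ⊤) :
    Cfsg.pCore 2 Q ⊔ commutator Q = ⊤ ∧ Cfsg.pCore 2 Q ≤ center Q ∧
      A = Cfsg.pCore 2 Q ⊔ Cfsg.omegaOne 2 (T : Subgroup Q) ∧
      ∃ (ι : Type) (_ : Fintype ι) (L : ι → Type u) (_ : ∀ i, Group (L i)),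
        (∀ i, IsSimpleGroup (L i) ∧ ¬ IsMulCommutative (L i) ∧ Cfsg.IsGoldschmidtGroup (L i)) ∧
          Nonempty (↥(commutator Q) ⧸ center ↥(commutator Q) ≃* ((i : ι) → L i)) := by
  haveI : Fact (Nat.Prime 2) := ⟨Nat.prime_two⟩
  haveI := LEBasic.pCore_characteristic (p := 2) (G := Q)
  obtain ⟨R, hRdef⟩ : ∃ R : Subgroup Q, R = Cfsg.pCore 2 Q := ⟨_, rfl⟩
  haveI hRn : R.Normal := hRdef ▸ inferInstance
  have hR : IsPGroup 2 R := hRdef ▸ LEBasic.pCore_isPGroup
  have hs := QuotientGroup.mk'_surjective R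
  have hM : Model (T.mapSurjective hs) (A.map (QuotientGroup.mk' R)) := by
    refine model h1 hW hNF (quotient_core_bot hO h hgen hR) (by subst hRdef; exact quotient_pCore_bot) (h.map _ hs) ?_
    have hle : A ≤ (normalClosure ((A.map (QuotientGroup.mk' R) : Subgroup (Q ⧸ R)) : Set (Q ⧸ R))).comap (QuotientGroup.mk' R) :=
      fun a ha => subset_normalClosure ⟨a, ha, rfl⟩
    have htop := eq_top_iff.2 (hgen ▸ normalClosure_le_normal hle)
    exact eq_top_iff.2 fun y _ => by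
      obtain ⟨x, rfl⟩ := hs y
      exact mem_comap.1 (htop.symm ▸ mem_top x)
  have hRA : R ≤ A := le_of_commutator h hgen hR (sylow_commutator h hgen hR hM)
  have hRc : R ≤ center Q := fun r hr => (inf_central h hgen hR).2.1 ⟨hRA hr, hr⟩
  have hmkR : ∀ r ∈ R, QuotientGroup.mk' R r = 1 := fun r hr => (QuotientGroup.eq_one_iff r).2 hr
  have hTle : ∀ x : Q, QuotientGroup.mk' R x ∈ A.map (QuotientGroup.mk' R) → x ∈ A := by
    rintro x ⟨a, ha, e⟩
    rw [show x = a * (a⁻¹ * x) by group]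
    exact mul_mem ha (hRA ((QuotientGroup.eq).1 e))
  rw [← hRdef]
  have hsup : R ⊔ commutator Q = ⊤ := by
    refine eq_top_iff.2 fun x _ => ?_
    have hx : QuotientGroup.mk' R x ∈ (commutator Q).map (QuotientGroup.mk' R) := by
      rw [map_commutator_eq, MonoidHom.range_eq_top.2 hs, ← _root_.commutator_def, hM.perfect]
      exact mem_top _
    obtain ⟨c, hc, e⟩ := hx
    rw [show x = c * (c⁻¹ * x) by group]
    exact mul_mem (mem_sup_right hc) (mem_sup_left ((QuotientGroup.eq).1 e))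
  refine ⟨hsup, hRc, le_antisymm ?_ (sup_le hRA ?_), ?_⟩
  · have hlink : closure (linkSet (A.map (QuotientGroup.mk' R))) ≤
        (R ⊔ Cfsg.omegaOne 2 (T : Subgroup Q)).map (QuotientGroup.mk' R) := by
      rw [closure_le]
      rintro v ⟨hv, w, ⟨a, ha, rfl⟩, g, k, hgw, rfl⟩
      obtain ⟨g, rfl⟩ := hs g
      obtain ⟨k, rfl⟩ := hs k
      have haw : g * a * g⁻¹ ∈ A := hTle _ (by rw [map_mul, map_mul, map_inv]; exact hgw)
      have hu : a⁻¹ * (g * a * g⁻¹) ∈ A := mul_mem (inv_mem ha) haw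
      have hu2 : a⁻¹ * (g * a * g⁻¹) * (a⁻¹ * (g * a * g⁻¹)) = 1 := by
        have ha2 : a * a ∈ R := (QuotientGroup.eq_one_iff _).1 (by
          show QuotientGroup.mk' R (a * a) = 1
          rw [map_mul]; exact hM.sq _ ⟨a, ha, rfl⟩)
        have hc := mem_center_iff.1 (hRc ha2) g
        rw [show a⁻¹ * (g * a * g⁻¹) * (a⁻¹ * (g * a * g⁻¹)) = a⁻¹ * ((g * a * g⁻¹) * a⁻¹) * (g * a * g⁻¹) by group,
          h.comm _ haw _ (inv_mem ha),
          show a⁻¹ * (a⁻¹ * (g * a * g⁻¹)) * (g * a * g⁻¹) = (a * a)⁻¹ * (g * (a * a)) * g⁻¹ by group, hc]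
        group
      have hkuA : k * (a⁻¹ * (g * a * g⁻¹)) * k⁻¹ ∈ A := hTle _ (by
        simp only [map_mul, map_inv]; exact hv)
      refine ⟨k * (a⁻¹ * (g * a * g⁻¹)) * k⁻¹, mem_sup_right (subset_closure ⟨h.le hkuA, ?_⟩), by
        simp only [map_mul, map_inv]⟩
      rw [conj_pow, pow_two, hu2, mul_one, mul_inv_cancel]
    intro a ha
    obtain ⟨b, hb, e⟩ := hlink (hM.link ⟨a, ha, rfl⟩)
    rw [show a = b * (b⁻¹ * a) by group]
    exact mul_mem hb (mem_sup_left ((QuotientGroup.eq).1 e))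
  · rw [Cfsg.omegaOne, closure_le]
    rintro t ⟨ht, ht2⟩
    exact hTle t (hM.inv _ ⟨t, ht, rfl⟩ (by rw [← map_mul, ← pow_two, ht2, map_one]))
  obtain ⟨ι, hι, L, hLg, hL, ⟨Φ⟩⟩ := hM.prod
  obtain ⟨ψ, hψ⟩ : ∃ ψ : ↥(commutator Q) →* Q ⧸ R, ψ = (QuotientGroup.mk' R).comp (commutator Q).subtype := ⟨_, rfl⟩
  have hψs : Function.Surjective ψ := fun y => by
    obtain ⟨x, rfl⟩ := hs y
    obtain ⟨r, hr, c, hc, e⟩ := mem_sup_of_normal_left.1 (hsup ▸ mem_top x : x ∈ R ⊔ commutator Q)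
    exact ⟨⟨c, hc⟩, by rw [hψ, ← e, map_mul, hmkR r hr, one_mul]; rfl⟩
  have hker : ψ.ker = center ↥(commutator Q) := by
    ext z
    rw [MonoidHom.mem_ker, hψ]
    constructor
    · intro hz
      exact mem_center_iff.2 fun y => Subtype.ext (mem_center_iff.1 (hRc ((QuotientGroup.eq_one_iff _).1 hz)) y)
    · intro hz
      rw [← hψ, ← mem_bot, ← hM.center, mem_center_iff]
      intro y
      obtain ⟨c, rfl⟩ := hψs y
      rw [← map_mul, ← map_mul, mem_center_iff.1 hz c]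
  exact ⟨ι, hι, L, hLg, hL, ⟨((QuotientGroup.quotientMulEquivOfEq hker.symm).trans
    (QuotientGroup.quotientKerEquivOfSurjective ψ hψs)).trans Φ⟩⟩

/-- `K = ⟨A^G⟩` is generated by the conjugates of `A` in `K`. -/
theorem normalClosure_eq_top {G : Type u} [Group G] [Finite G] {S : Sylow 2 G} {A : Subgroup G}
    (h : SC S A) (K : Subgroup G) (hK : K = normalClosure (A : Set G)) :
    normalClosure ((A.subgroupOf K : Subgroup K) : Set K) = ⊤ := by
  haveI : Fact (Nat.Prime 2) := ⟨Nat.prime_two⟩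
  haveI hKn : K.Normal := hK ▸ normalClosure_normal
  have hAK : A ≤ K := hK ▸ fun a ha => subset_normalClosure ha
  obtain ⟨U, hU⟩ := sylow_inf S hKn
  have key : ∀ (g a : G) (ha : a ∈ A), (⟨g * a * g⁻¹, hKn.conj_mem a (hAK ha) g⟩ : K) ∈
      normalClosure ((A.subgroupOf K : Subgroup K) : Set K) := by
    intro g a ha
    have hle : A.map (MulAut.conj g).toMonoidHom ≤ K := by
      rintro _ ⟨x, hx, rfl⟩; exact hKn.conj_mem x (hAK hx) g
    obtain ⟨k, hk, hkle⟩ := LESylow.exists_conj_le_of_le hle (h.isPGroup.map _) U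
    have hin : ∀ x ∈ A, k * g * x * (k * g)⁻¹ ∈ A := fun x hx => by
      obtain ⟨y, hy, e⟩ := hkle ⟨g * x * g⁻¹, ⟨x, hx, rfl⟩, rfl⟩
      refine h.mem hx ?_
      rw [hU] at hy
      have e' : (y : G) = k * (g * x * g⁻¹) * k⁻¹ := e
      rw [show k * g * x * (k * g)⁻¹ = k * (g * x * g⁻¹) * k⁻¹ by group, ← e']
      exact hy.1
    have hn : k * g * a * (k * g)⁻¹ ∈ A := hin a ha
    have h2 := (normalClosure_normal (s := ((A.subgroupOf K : Subgroup K) : Set K))).conj_mem
      (⟨k * g * a * (k * g)⁻¹, hAK hn⟩ : K) (subset_normalClosure (mem_subgroupOf.2 hn)) (⟨k, hk⟩⁻¹ : K)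
    convert h2 using 1
    apply Subtype.ext
    simp [mul_assoc]
  refine eq_top_iff.2 fun x _ => ?_
  have hle : K ≤ (normalClosure ((A.subgroupOf K : Subgroup K) : Set K)).map K.subtype := by
    conv_lhs => rw [hK, normalClosure]
    rw [closure_le]
    intro y hy
    obtain ⟨a, ha, hc⟩ := Group.mem_conjugatesOfSet_iff.1 hy
    obtain ⟨g, rfl⟩ := isConj_iff.1 hc
    exact ⟨_, key g a ha, rfl⟩
  obtain ⟨y, hy, e⟩ := hle x.2
  rwa [← Subtype.ext (p := fun z => z ∈ K) (a1 := y) (a2 := x) e]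

/-- **Goldschmidt's theorem, structural form**, from the simple form. -/
theorem S2775_of (h1 : GoldGroups.ClosedAbelianSimple.{u}) (hW : GoldGroups.WalterGood.{u})
    (hNF : GoldGroups.RJNoField.{u}) {G : Type u} [Group G] [Finite G] (S : Sylow 2 G) (A : Subgroup G)
    (hA : IsMulCommutative ↥A) (hsc : Cfsg.IsStronglyClosed A (S : Subgroup G)) (K : Subgroup G)
    (hK : K = Subgroup.normalClosure (A : Set G)) (Q : Type u) [Group Q] (π : ↥K →* Q)
    (hπ : Function.Surjective π) (hker : π.ker = Cfsg.pPrimeCore 2 ↥K) :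
    Cfsg.pCore 2 Q ⊔ commutator Q = ⊤ ∧ Cfsg.pCore 2 Q ≤ Subgroup.center Q ∧
      (∃ T : Sylow 2 Q, (A.subgroupOf K).map π ≤ (T : Subgroup Q) ∧
        (A.subgroupOf K).map π = Cfsg.pCore 2 Q ⊔ Cfsg.omegaOne 2 (T : Subgroup Q)) ∧
      ∃ (ι : Type) (_ : Fintype ι) (L : ι → Type u) (_ : ∀ i, Group (L i)),
        (∀ i, IsSimpleGroup (L i) ∧ ¬ IsMulCommutative (L i) ∧ Cfsg.IsGoldschmidtGroup (L i)) ∧
          Nonempty (↥(commutator Q) ⧸ Subgroup.center ↥(commutator Q) ≃* ((i : ι) → L i)) := by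
  haveI : Fact (Nat.Prime 2) := ⟨Nat.prime_two⟩
  haveI : Finite Q := Finite.of_surjective π hπ
  have h : SC S A := ⟨fun a ha b hb => congrArg Subtype.val (hA.is_comm.comm (⟨a, ha⟩ : A) ⟨b, hb⟩), hsc⟩
  obtain ⟨P, hP⟩ := h.restrict (M := K) (hK ▸ fun a ha => subset_normalClosure ha)
  have hQ := hP.map π hπ
  have hgen : normalClosure (((A.subgroupOf K).map π : Subgroup Q) : Set Q) = ⊤ := by
    have hle : A.subgroupOf K ≤ (normalClosure (((A.subgroupOf K).map π : Subgroup Q) : Set Q)).comap π :=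
      fun a ha => subset_normalClosure ⟨a, ha, rfl⟩
    have htop := eq_top_iff.2 (normalClosure_eq_top h K hK ▸ normalClosure_le_normal hle)
    exact eq_top_iff.2 fun y _ => by
      obtain ⟨x, rfl⟩ := hπ y
      exact mem_comap.1 (htop.symm ▸ mem_top x)
  have hO : ∀ N : Subgroup Q, N.Normal → Odd (Nat.card N) → N = ⊥ := by
    intro N hN hodd
    have h2 : N.comap π ≤ π.ker := by
      have hcop := PBasic.pPrimeCore_coprime 2 ↥K
      rw [← hker] at hcop
      have hidx : (π.ker.subgroupOf (N.comap π)).index = Nat.card N := by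
        have e : (π.comp (N.comap π).subtype).ker = π.ker.subgroupOf (N.comap π) := rfl
        rw [← e, Subgroup.index_ker, MonoidHom.range_comp, range_subtype, map_comap_eq_self_of_surjective hπ]
      have hcard : Nat.card (N.comap π) = Nat.card π.ker * Nat.card N := by
        rw [← hidx, ← card_mul_index (π.ker.subgroupOf (N.comap π)),
          Nat.card_congr (subgroupOfEquivOfLe (fun x hx => by
            rw [mem_comap, MonoidHom.mem_ker.1 hx]; exact one_mem N)).toEquiv]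
      rw [hker]
      exact PBasic.le_pPrimeCore (hN.comap π) (hcard ▸ Nat.Coprime.mul_left hcop (Nat.coprime_two_right.2 hodd))
    rw [eq_bot_iff]
    intro y hy
    obtain ⟨x, rfl⟩ := hπ y
    exact mem_bot.2 (MonoidHom.mem_ker.1 (h2 (mem_comap.2 hy)))
  obtain ⟨c1, c2, c3, c4⟩ := structure_of h1 hW hNF hO hQ hgen
  exact ⟨c1, c2, ⟨_, hQ.le, c3⟩, c4⟩

end Cfsg.Agent.GoldStruct
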