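import Cfsg.Agent.Lib.GoldStruct.ModelSz
import Cfsg.Agent.Lib.PSU3Index.Orbit
import Cfsg.Agent.Lib.SU3Sylow.Embed
import Cfsg.Agent.Lib.Classical.SL2Classes

/-!
The unipotent radical in `PSU₃(2^n)`.
-/

set_option autoImplicit false
set_option linter.unusedSectionVars false
set_option linter.style.haveILetI false

namespace Cfsg.Agent.GoldStruct

open PSU3Index
open Cfsg.Agent.SU3Root (uu dd)
open Hermitian (fixed mem_fixed)

universe u v

variable {F : Type u} [Field F] [Fintype F] {q : ℕ}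

local notation "M3" => Matrix (Fin 3) (Fin 3) F
set_option quotPrecheck false in
local notation "SU3" => ↥(Cfsg.SU 3 F q)

variable (C : Ctx F q)

/-- The projection. -/
def prj : ↥(Cfsg.SU 3 F q) →* Cfsg.PSU 3 F q := QuotientGroup.mk' (Subgroup.center ↥(Cfsg.SU 3 F q))

theorem prj_uEl_inj {a b a' b' : F} (h : b + C.σ b + a * C.σ a = 0) (h' : b' + C.σ b' + a' * C.σ a' = 0)
    (e : prj (uEl C a b h) = prj (uEl C a' b' h')) : a = a' ∧ b = b' := by
  set z := (uEl C a b h)⁻¹ * uEl C a' b' h' with hz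
  have hzc : z ∈ Subgroup.center SU3 := (QuotientGroup.eq).1 e
  have hzr : z ∈ rad C := mul_mem (inv_mem (uEl_mem_rad C h)) (uEl_mem_rad C h')
  obtain ⟨c, hc⟩ := SU3Root.scalar_of_mem_center C.hne C.hinv C.hσ C.hq hzc
  have e1 : mat C z = Matrix.diagonal fun _ => c := by
    rw [mat, hc, Matrix.mul_assoc, ← Matrix.scalar_apply, (Matrix.scalar_commute c (Commute.all c) _).eq,
      ← Matrix.mul_assoc, C.fr.hQP, Matrix.one_mul]
  have h00 := hzr.2
  rw [e1, Matrix.diagonal_apply_eq] at h00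
  have hz1 : mat C z = 1 := by rw [e1, h00, Matrix.diagonal_one]
  have hz2 : uEl C a b h = uEl C a' b' h' := by
    rw [← mat_one C] at hz1
    exact (inv_mul_eq_one.1 (mat_inj C hz1))
  have h3 := congrArg (mat C) hz2
  rw [mat_uEl, mat_uEl] at h3
  exact ⟨by simpa [uu] using congrFun (congrFun h3 1) 2, by simpa [uu] using congrFun (congrFun h3 0) 2⟩

theorem uEl_prod {a b a' b' : F} (h : b + C.σ b + a * C.σ a = 0) (h' : b' + C.σ b' + a' * C.σ a' = 0) :
    ∃ h'', uEl C a b h * uEl C a' b' h' = uEl C (a + a') (b + b' - C.σ a * a') h'' := by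
  refine ⟨?_, mat_inj C ?_⟩
  · simp only [map_add, map_sub, map_mul, C.hinv]
    linear_combination h + h'
  · rw [mat_mul, mat_uEl, mat_uEl, mat_uEl, uu_mul]

theorem uEl_congr {a b a' b' : F} (h : b + C.σ b + a * C.σ a = 0) (h' : b' + C.σ b' + a' * C.σ a' = 0)
    (ea : a = a') (eb : b = b') : uEl C a b h = uEl C a' b' h' := by
  subst ea; subst eb; rfl

theorem uEl_zero (h : (0 : F) + C.σ 0 + 0 * C.σ 0 = 0) : uEl C 0 0 h = 1 :=
  mat_inj C (by rw [mat_uEl, mat_one]; ext i j; fin_cases i <;> fin_cases j <;> simp [uu])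

theorem dEl_conj_uEl {l : F} (hl : l ≠ 0) {a b : F} (h : b + C.σ b + a * C.σ a = 0) :
    ∃ h', dEl C l hl * uEl C a b h * (dEl C l hl)⁻¹ = uEl C (mu C l * a) (nu C l * b) h' := by
  have hl' : C.σ l ≠ 0 := (map_ne_zero C.σ).2 hl
  refine ⟨?_, mul_inv_eq_iff_eq_mul.2 (mat_inj C ?_)⟩
  · simp only [mu, nu, map_mul, map_div₀, C.hinv]
    field_simp
    linear_combination (l * C.σ l) * h
  · rw [mat_mul, mat_mul, mat_dEl, mat_uEl, mat_uEl, dd_uu C hl]

open Classical in
/-- The first coordinate. -/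
noncomputable def psuCoord (g : Cfsg.PSU 3 F q) : F :=
  if e : ∃ a b h, g = prj (uEl C a b h) then e.choose else 0

theorem psuCoord_el {a b : F} (h : b + C.σ b + a * C.σ a = 0) : psuCoord C (prj (uEl C a b h)) = a := by
  have e : ∃ a' b' h', prj (uEl C a b h) = prj (uEl C a' b' h') := ⟨a, b, h, rfl⟩
  rw [psuCoord, dif_pos e]
  obtain ⟨b', h', hb⟩ := e.choose_spec
  exact (prj_uEl_inj C h h' hb).1.symm

/-- The radical in `PSU₃`. -/
def radP : Subgroup (Cfsg.PSU 3 F q) := (rad C).map prj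

theorem mem_radP {g : Cfsg.PSU 3 F q} (hg : g ∈ radP C) : ∃ a b h, g = prj (uEl C a b h) := by
  obtain ⟨g0, hg0, rfl⟩ := hg
  obtain ⟨a, b, h, rfl⟩ := rad_form C hg0
  exact ⟨a, b, h, rfl⟩

theorem el_mem_radP {a b : F} (h : b + C.σ b + a * C.σ a = 0) : prj (uEl C a b h) ∈ radP C :=
  ⟨_, uEl_mem_rad C h, rfl⟩

theorem prj_dEl_mem {l : F} (hl : l ≠ 0) :
    prj (dEl C l hl) ∈ Subgroup.normalizer ((radP C : Subgroup (Cfsg.PSU 3 F q)) : Set (Cfsg.PSU 3 F q)) := by
  refine Subgroup.le_normalizer_map (prj (F := F) (q := q)) ⟨_, ?_, rfl⟩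
  exact Subgroup.le_normalizer_iff.2 (fun g hg x hx => rad_conj C hg hx) (dEl_mem C hl)

theorem scal_mu {l : F} (hl : l ≠ 0) : Scal (radP C) (psuCoord C) (mu C l) := by
  refine ⟨_, prj_dEl_mem C hl, fun x hx => ?_⟩
  obtain ⟨a, b, h, rfl⟩ := mem_radP C hx
  obtain ⟨h', e⟩ := dEl_conj_uEl C hl h
  rw [← map_inv, ← map_mul, ← map_mul, e, psuCoord_el, psuCoord_el]

variable [CharP F 2]

theorem uEl_sq {a b : F} (h : b + C.σ b + a * C.σ a = 0) :
    ∃ h', uEl C a b h * uEl C a b h = uEl C 0 (C.σ a * a) h' := by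
  obtain ⟨h'', e⟩ := uEl_prod C h h
  have e1 : a + a = 0 := CharTwo.add_self_eq_zero a
  have e2 : b + b - C.σ a * a = C.σ a * a := by
    rw [CharTwo.add_self_eq_zero, zero_sub, CharTwo.neg_eq]
  have h' : C.σ a * a + C.σ (C.σ a * a) + 0 * C.σ 0 = 0 := by
    rw [map_mul, C.hinv, zero_mul, add_zero, mul_comm a, CharTwo.add_self_eq_zero]
  exact ⟨h', e.trans (uEl_congr C h'' h' e1 e2)⟩

theorem sq_el_iff {a b : F} (h : b + C.σ b + a * C.σ a = 0) :
    prj (uEl C a b h) * prj (uEl C a b h) = 1 ↔ a = 0 := by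
  obtain ⟨h', e⟩ := uEl_sq C h
  have h0 : (0 : F) + C.σ 0 + 0 * C.σ 0 = 0 := by simp
  rw [← map_mul, e]
  constructor
  · intro he
    have := (prj_uEl_inj C h' h0 (by rw [he, uEl_zero, map_one])).2
    rcases mul_eq_zero.1 this with e' | e'
    · exact (map_eq_zero C.σ).1 e'
    · exact e'
  · rintro rfl
    rw [show uEl C 0 (C.σ 0 * 0) h' = uEl C 0 0 h0 from uEl_congr C h' h0 rfl (mul_zero _), uEl_zero, map_one]

theorem coord_radP : Coord (radP C) (psuCoord C) := by
  refine ⟨?_, ?_, ?_, ?_, ?_, ?_⟩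
  · intro x hx y hy
    obtain ⟨a, b, h, rfl⟩ := mem_radP C hx
    obtain ⟨c, d, h', rfl⟩ := mem_radP C hy
    obtain ⟨h'', e⟩ := uEl_prod C h h'
    rw [← map_mul, e, psuCoord_el, psuCoord_el, psuCoord_el]
  · intro x hx
    obtain ⟨a, b, h, rfl⟩ := mem_radP C hx
    rw [psuCoord_el, sq_el_iff]
  · intro v
    have hpos : 0 < Nat.card {b : F // b + C.σ b + v * C.σ v = 0} := by
      rw [card_trace_fibre C (x := v * C.σ v) (by rw [map_mul, C.hinv, mul_comm])]
      have := q_two_le C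
      omega
    obtain ⟨⟨b, hb⟩⟩ := (Nat.card_pos_iff.1 hpos).1
    exact ⟨_, el_mem_radP C hb, psuCoord_el C hb⟩
  · intro x hx hx2 y hy
    obtain ⟨a, b, h, rfl⟩ := mem_radP C hx
    obtain rfl := (sq_el_iff C h).1 hx2
    obtain ⟨c, d, h', rfl⟩ := mem_radP C hy
    obtain ⟨k1, e1⟩ := uEl_prod C h h'
    obtain ⟨k2, e2⟩ := uEl_prod C h' h
    rw [← map_mul, ← map_mul, e1, e2]
    exact congrArg _ (uEl_congr C k1 k2 (add_comm _ _) (by rw [map_zero, zero_mul, mul_zero, add_comm b]))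
  · intro x hx
    obtain ⟨a, b, h, rfl⟩ := mem_radP C hx
    obtain ⟨h', e⟩ := uEl_sq C h
    rw [← map_mul prj (uEl C a b h), e]
    exact (sq_el_iff C h').2 rfl
  · intro w hw hw2
    obtain ⟨a, b, h, rfl⟩ := mem_radP C hw
    obtain rfl := (sq_el_iff C h).1 hw2
    have hb : C.σ b = b := by
      rw [zero_mul, add_zero] at h
      exact (CharTwo.add_eq_zero.1 h).symm
    obtain ⟨r, hr⟩ := SL2Classes.exists_sqrt_two b
    have hσr : C.σ r = r := by
      have e : C.σ r ^ 2 = r ^ 2 := by rw [← map_pow, hr, hb]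
      exact frobenius_inj F 2 (by simpa [frobenius_def] using e)
    obtain ⟨d, hd⟩ : ∃ d, d + C.σ d + r * C.σ r = 0 := by
      have hpos : 0 < Nat.card {b : F // b + C.σ b + r * C.σ r = 0} := by
        rw [card_trace_fibre C (x := r * C.σ r) (by rw [map_mul, C.hinv, mul_comm])]
        have := q_two_le C
        omega
      obtain ⟨⟨d, hd⟩⟩ := (Nat.card_pos_iff.1 hpos).1
      exact ⟨d, hd⟩
    refine ⟨_, el_mem_radP C hd, ?_⟩
    obtain ⟨h', e⟩ := uEl_sq C hd
    rw [← map_mul, e]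
    exact congrArg _ (uEl_congr C h' h rfl (by rw [hσr, ← hr, pow_two]))

theorem psu_bend {n : ℕ} (hn : 2 ≤ n) (hqn : q = 2 ^ n) : Bend.{u, v} (radP C) := by
  classical
  have hc := coord_radP C
  have hq4 : 4 ≤ q := hqn ▸ le_trans (by norm_num) (Nat.pow_le_pow_right two_pos hn)
  obtain ⟨μ, h1, h2, h0, h0', hne, hμ⟩ : ∃ μ : F, Scal (radP C) (psuCoord C) μ ∧
      Scal (radP C) (psuCoord C) (μ + 1) ∧ μ ≠ 0 ∧ μ + 1 ≠ 0 ∧ μ ≠ 1 ∧ μ * μ + μ + 1 ≠ 0 := by
    rcases Nat.lt_or_ge n 3 with h3 | h3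
    · obtain rfl : n = 2 := by omega
      have h16 : Fintype.card F = 16 := by
        rw [← Nat.card_eq_fintype_card, card_F C, hqn]; norm_num
      have hall : ∀ x : F, x ≠ 0 → Scal (radP C) (psuCoord C) x := by
        intro x hx
        have h13 : x ^ 13 ≠ 0 := pow_ne_zero _ hx
        have e : mu C (x ^ 13) = x := by
          rw [mu, C.hσ, hqn, div_eq_iff h13]
          have h15 : x ^ 15 = 1 := by
            have := FiniteField.pow_card_sub_one_eq_one x hx
            rwa [h16] at this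
          norm_num
          rw [← pow_succ', ← pow_mul, ← pow_add,
            show 13 * 4 + 13 * 4 = 13 + 1 + 15 * 6 from rfl, pow_add, pow_mul, h15, one_pow, mul_one]
        rw [← e]
        exact scal_mu C h13
      obtain ⟨μ, h0, h0', hne, hμ⟩ := exists_good_scalar (K := F) (by omega)
      exact ⟨μ, hall μ h0, hall _ h0', h0, h0', hne, hμ⟩
    · letI : Fintype (fixed C.σ) := Fintype.ofFinite _
      obtain ⟨μ, h0, h0', hne, hμ⟩ := exists_good_scalar (K := fixed C.σ) (by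
        rw [← Nat.card_eq_fintype_card, C.hq, hqn]
        exact le_trans (by norm_num) (Nat.pow_le_pow_right two_pos h3))
      have hfix : ∀ x : fixed C.σ, x ≠ 0 → Scal (radP C) (psuCoord C) (x : F) := by
        intro x hx
        have hx' : (x : F) ≠ 0 := fun e => hx (Subtype.ext e)
        have e : mu C (x : F) = x := by
          rw [mu, mem_fixed.1 x.2, mul_div_assoc, div_self hx', mul_one]
        rw [← e]
        exact scal_mu C hx'
      refine ⟨μ, hfix μ h0, by exact_mod_cast hfix (μ + 1) h0', fun e => h0 (Subtype.ext e),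
        fun e => h0' (Subtype.ext (by exact_mod_cast e)), fun e => hne (Subtype.ext e),
        fun e => hμ (Subtype.ext (by exact_mod_cast e))⟩
  refine bend_of_coord hc h1 h2 h0 h0' hne hμ (Or.inl ?_)
  -- an element of norm one which is no cube root of one
  obtain ⟨l, hl, hl3⟩ : ∃ l : F, l * C.σ l = 1 ∧ l ^ 3 ≠ 1 := by
    by_contra hall
    simp only [not_exists, not_and, not_not] at hall
    have hcard := card_norm_one C
    have hle : Nat.card {a : F // a * C.σ a = 1} ≤ 3 := by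
      rw [Nat.card_eq_fintype_card, Fintype.card_subtype]
      refine le_trans (b := (Polynomial.X ^ 3 - Polynomial.C (1 : F)).roots.toFinset.card) ?_
        ((Multiset.toFinset_card_le _).trans ((Polynomial.card_roots' _).trans (le_of_eq Polynomial.natDegree_X_pow_sub_C)))
      refine Finset.card_le_card fun x hx => ?_
      rw [Multiset.mem_toFinset, Polynomial.mem_roots (Polynomial.X_pow_sub_C_ne_zero (by norm_num) _)]
      simp [hall x (Finset.mem_filter.1 hx).2]
    omega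
  have hl0 : l ≠ 0 := left_ne_zero_of_mul_eq_one hl
  refine ⟨mu C l, ?_, _, prj_dEl_mem C hl0, fun x hx => ?_, fun x hx => ?_⟩
  · intro e
    have hs : C.σ l = l⁻¹ := eq_inv_of_mul_eq_one_right hl
    rw [mu, hs, div_eq_iff hl0, one_mul] at e
    refine hl3 ?_
    field_simp at e
    linear_combination -e
  · obtain ⟨a, b, h, rfl⟩ := mem_radP C hx
    obtain ⟨h', e⟩ := dEl_conj_uEl C hl0 h
    rw [← map_inv, ← map_mul, ← map_mul, e, psuCoord_el, psuCoord_el]
  · obtain ⟨a, b, h, rfl⟩ := mem_radP C hx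
    obtain ⟨h', e⟩ := uEl_sq C h
    obtain ⟨h'', e'⟩ := dEl_conj_uEl C hl0 h'
    rw [← map_mul prj (uEl C a b h), e, ← map_inv, ← map_mul, ← map_mul, e']
    exact congrArg _ (uEl_congr C h'' h' (mul_zero _) (by rw [nu, hl, one_mul]))

end Cfsg.Agent.GoldStruct
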