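import Cfsg.Agent.Lib.GoldStruct.Bend
import Cfsg.Agent.Lib.Suzuki.Structure

/-!
The root group of a Suzuki group.
-/

set_option autoImplicit false
set_option linter.unusedSectionVars false
set_option linter.style.haveILetI false

namespace Cfsg.Agent.GoldStruct

open Suzuki

universe u v

variable {F : Type u} [Field F] [Fintype F] {m : ℕ}

theorem exists_good_scalar {K : Type*} [Field K] [Fintype K] (h8 : 6 ≤ Fintype.card K) :
    ∃ μ : K, μ ≠ 0 ∧ μ + 1 ≠ 0 ∧ μ ≠ 1 ∧ μ * μ + μ + 1 ≠ 0 := by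
  classical
  by_contra hall
  simp only [not_exists, not_and, not_not] at hall
  have hsub : (Finset.univ : Finset K) ⊆ {0, -1, 1} ∪ (Polynomial.X ^ 2 + Polynomial.X + 1 : Polynomial K).roots.toFinset := by
    intro x _
    simp only [Finset.mem_union, Finset.mem_insert, Finset.mem_singleton, Multiset.mem_toFinset]
    by_cases h0 : x = 0
    · exact Or.inl (Or.inl h0)
    by_cases h1 : x + 1 = 0
    · exact Or.inl (Or.inr (Or.inl (eq_neg_of_add_eq_zero_left h1)))
    by_cases h2 : x = 1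
    · exact Or.inl (Or.inr (Or.inr h2))
    right
    have hne : (Polynomial.X ^ 2 + Polynomial.X + 1 : Polynomial K) ≠ 0 := by
      intro e
      have := congrArg (Polynomial.eval 0) e
      simp at this
    rw [Polynomial.mem_roots hne]
    simpa [pow_two] using hall x h0 h1 h2
  have h3 : ({0, -1, 1} : Finset K).card ≤ 3 := Finset.card_le_three
  have h2 := Finset.card_le_card hsub
  have h4 := Finset.card_union_le ({0, -1, 1} : Finset K)
    (Polynomial.X ^ 2 + Polynomial.X + 1 : Polynomial K).roots.toFinset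
  have h5 := Multiset.toFinset_card_le (Polynomial.X ^ 2 + Polynomial.X + 1 : Polynomial K).roots
  have h6 := Polynomial.card_roots' (Polynomial.X ^ 2 + Polynomial.X + 1 : Polynomial K)
  have h7 : (Polynomial.X ^ 2 + Polynomial.X + 1 : Polynomial K).natDegree ≤ 2 := by compute_degree
  rw [Finset.card_univ] at h2
  omega

open Classical in
/-- The first coordinate. -/
noncomputable def szCoord (h : SzField F m) (g : Cfsg.Sz F m) : F :=
  if e : ∃ a b, g = T h a b then e.choose else 0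

theorem szCoord_T (h : SzField F m) (a b : F) : szCoord h (T h a b) = a := by
  have e : ∃ a' b', T h a b = T h a' b' := ⟨a, b, rfl⟩
  rw [szCoord, dif_pos e]
  obtain ⟨b', hb⟩ := e.choose_spec
  exact (T_injective h hb).1.symm

theorem sz_bend (h : SzField F m) : Bend.{u, v} (rootGroup h) := by
  classical
  have hc : Coord (rootGroup h) (szCoord h) := by
    refine ⟨?_, ?_, fun v => ⟨T h v 0, ⟨v, 0, rfl⟩, szCoord_T h v 0⟩, ?_, ?_, ?_⟩
    · rintro _ ⟨a, b, rfl⟩ _ ⟨c, d, rfl⟩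
      rw [T_mul, szCoord_T, szCoord_T, szCoord_T]
    · rintro _ ⟨a, b, rfl⟩
      rw [szCoord_T, T_sq, eq_one_iff_T h, mul_eq_zero, h.θ_eq_zero]
      simp
    · rintro _ ⟨a, b, rfl⟩ he _ ⟨c, d, rfl⟩
      rw [T_sq, eq_one_iff_T h, mul_eq_zero, h.θ_eq_zero, or_self] at he
      rw [he.2, T_zero_central]
    · rintro _ ⟨a, b, rfl⟩
      rw [T_sq, T_sq]
      simp [T_zero]
    · rintro _ ⟨a, b, rfl⟩ he
      rw [T_sq, eq_one_iff_T h, mul_eq_zero, h.θ_eq_zero, or_self] at he
      obtain rfl := he.2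
      by_cases hb : b = 0
      · exact ⟨1, one_mem _, by rw [hb, T_zero, one_mul]⟩
      obtain ⟨k, -, hk⟩ := h.θ_mul_self_surjective b hb
      exact ⟨T h k 0, ⟨k, 0, rfl⟩, by rw [T_sq, hk]⟩
  have hs : ∀ μ : F, μ ≠ 0 → Scal (rootGroup h) (szCoord h) μ := fun μ hμ => by
    refine ⟨H h (Units.mk0 μ hμ), borel_le_normalizer h (H_mem_borel h _), ?_⟩
    rintro _ ⟨a, b, rfl⟩
    rw [H_conj_T, szCoord_T, szCoord_T, Units.val_mk0]
  obtain ⟨μ, h0, h1, h2, h3⟩ := exists_good_scalar (K := F) (by have := h.eight_le_card; omega)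
  refine bend_of_coord hc (hs μ h0) (hs _ h1) h0 h1 h2 h3 (Or.inr ⟨hs, ?_⟩)
  obtain ⟨c, hcne⟩ := h.exists_θ_ne
  refine ⟨T h 1 0, ⟨1, 0, rfl⟩, T h c 0, ⟨c, 0, rfl⟩, fun e => hcne ?_⟩
  rw [T_mul, T_mul] at e
  have e2 := (T_injective h e).2
  simp only [zero_add, mul_one, Suzuki.θ, one_pow, one_mul] at e2 ⊢
  exact e2.symm

end Cfsg.Agent.GoldStruct
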