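import Cfsg.Agent.Lib.GoldStruct.Inner
import Cfsg.Agent.Lib.Components.FStar
import Cfsg.Agent.Lib.Components.Balance
import Cfsg.Agent.Lib.Components.PNormalizer
import Cfsg.Agent.Lib.Isolated.RankTwo
import Mathlib.GroupTheory.Subgroup.Simple
import Mathlib.GroupTheory.Abelianization.Defs

/-!
A group without solvable normal subgroups generated by the conjugates of a strongly closed abelian
2-subgroup is a product of simple groups on the list.
-/

set_option autoImplicit false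
set_option linter.unusedSectionVars false
set_option linter.style.haveILetI false

namespace Cfsg.Agent.GoldStruct

open Subgroup

universe u

variable {X : Type u} [Group X] [Finite X]

/-- The elements which will lift to involutions. -/
def linkSet (A : Subgroup X) : Set X :=
  {v | v ∈ A ∧ ∃ w ∈ A, ∃ g h : X, g * w * g⁻¹ ∈ A ∧ h * (w⁻¹ * (g * w * g⁻¹)) * h⁻¹ = v}

/-- The structure of the quotient by the 2-core. -/
structure Model (T : Sylow 2 X) (A : Subgroup X) : Prop where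
  sq : ∀ a ∈ A, a * a = 1
  inv : ∀ x ∈ (T : Subgroup X), x * x = 1 → x ∈ A
  sqT : ∀ x ∈ (T : Subgroup X), x * x ∈ A
  pair : ∀ {M : Type u} [CommGroup M] (f : X → X → M),
    (∀ x ∈ (T : Subgroup X), ∀ y ∈ (T : Subgroup X), ∀ z ∈ (T : Subgroup X), f (x * y) z = f x z * f y z) →
    (∀ x ∈ (T : Subgroup X), ∀ y ∈ (T : Subgroup X), ∀ z ∈ (T : Subgroup X), f x (y * z) = f x y * f x z) →
    (∀ w ∈ A, ∀ y ∈ (T : Subgroup X), f w y = 1 ∧ f y w = 1) →
    (∀ d ∈ normalizer ((T : Subgroup X) : Set X), ∀ x ∈ (T : Subgroup X), ∀ y ∈ (T : Subgroup X),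
      f (d * x * d⁻¹) (d * y * d⁻¹) = f x y) →
    ∀ x ∈ (T : Subgroup X), ∀ y ∈ (T : Subgroup X), f x y = 1
  link : A ≤ closure (linkSet A)
  perfect : commutator X = ⊤
  center : center X = ⊥
  prod : ∃ (ι : Type) (_ : Fintype ι) (L : ι → Type u) (_ : ∀ i, Group (L i)),
    (∀ i, IsSimpleGroup (L i) ∧ ¬ IsMulCommutative (L i) ∧ Cfsg.IsGoldschmidtGroup (L i)) ∧
      Nonempty (X ≃* ((i : ι) → L i))

variable {T : Sylow 2 X} {A : Subgroup X}

theorem fitting_bot (hO : ∀ N : Subgroup X, N.Normal → Odd (Nat.card N) → N = ⊥)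
    (h2 : Cfsg.pCore 2 X = ⊥) : Cfsg.fittingSubgroup X = ⊥ := by
  haveI : Fact (Nat.Prime 2) := ⟨Nat.prime_two⟩
  refine IsoRankTwo.fitting_eq_bot (p := 2) ?_ h2
  refine hO _ (Cfsg.pPrimeCore_normal 2 X) ?_
  rw [← Nat.not_even_iff_odd, even_iff_two_dvd]
  exact fun h => Nat.prime_two.coprime_iff_not_dvd.1 (PBasic.pPrimeCore_coprime 2 X).symm h

theorem centralizer_layer_bot (hF : Cfsg.fittingSubgroup X = ⊥) :
    centralizer (Cfsg.layer X : Set X) = ⊥ := by
  have h := Components.centralizer_generalizedFitting_le (G := X)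
  rw [Cfsg.generalizedFittingSubgroup, hF, sup_bot_eq] at h
  rw [eq_bot_iff]
  refine le_trans (le_inf h le_rfl) ?_
  rw [Components.center_layer_eq, hF, bot_inf_eq]

theorem component_facts (hF : Cfsg.fittingSubgroup X = ⊥) {L : Subgroup X} (hL : Cfsg.IsComponent L) :
    IsSimpleGroup L ∧ ¬ IsMulCommutative L := by
  have hZ : center L = ⊥ := by
    rw [← map_eq_bot_iff_of_injective _ L.subtype_injective, eq_bot_iff]
    rintro _ ⟨z, hz, rfl⟩
    have := Components.layerCenter_of_component hL z.2 (mem_centralizer_iff.2 fun y hy =>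
      congrArg Subtype.val (mem_center_iff.1 hz ⟨y, hy⟩))
    rw [Components.layerCenter, Components.center_layer_eq, hF, bot_inf_eq] at this
    exact this
  haveI := hL.2.2
  exact ⟨((QuotientGroup.quotientMulEquivOfEq hZ).trans QuotientGroup.quotientBot).symm.isSimpleGroup_congr.2 inferInstance,
    Components.quasisimple_not_commutative hL.2⟩

theorem sylow_inf_component (T : Sylow 2 X) {L : Subgroup X} (hL : Cfsg.IsComponent L) :
    FusionSys.IsSyl 2 ((T : Subgroup X) ⊓ L) L := by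
  haveI : Fact (Nat.Prime 2) := ⟨Nat.prime_two⟩
  haveI := Components.layer_normal (G := X)
  have h1 := (FusionSys.isSyl_sylow T).inf_normal (C := Cfsg.layer X) le_top
    (le_of_le_of_eq le_top (normalizer_eq_top (Cfsg.layer X)).symm)
  have h2 := h1.inf_normal (C := L) (Components.component_le_layer hL)
    (Components.layer_le_normalizer_component hL)
  rwa [inf_assoc, inf_eq_right.2 (Components.component_le_layer hL)] at h2

theorem exists_invol_component (hO : ∀ N : Subgroup X, N.Normal → Odd (Nat.card N) → N = ⊥)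
    (T : Sylow 2 X) {L : Subgroup X} (hL : Cfsg.IsComponent L) :
    ∃ w ∈ (T : Subgroup X) ⊓ L, orderOf w = 2 := by
  haveI : Fact (Nat.Prime 2) := ⟨Nat.prime_two⟩
  refine exists_involution (sylow_inf_component T hL).2.1 fun e => ?_
  have hcore : Cfsg.pPrimeCore 2 X = ⊥ := by
    refine hO _ (Cfsg.pPrimeCore_normal 2 X) ?_
    rw [← Nat.not_even_iff_odd, even_iff_two_dvd]
    exact fun h => Nat.prime_two.coprime_iff_not_dvd.1 (PBasic.pPrimeCore_coprime 2 X).symm h
  obtain ⟨x, hx, ⟨k, hk⟩, hxc⟩ := Components.component_not_le_pPrime (p := 2) hcore hL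
  have hp : IsPGroup 2 (zpowers x) := IsPGroup.iff_card.2 (by
    rw [Nat.card_zpowers]
    obtain ⟨i, -, hi⟩ := (Nat.dvd_prime_pow Nat.prime_two).1 (orderOf_dvd_of_pow_eq_one hk)
    exact ⟨i, hi⟩)
  have := (sylow_inf_component T hL).card_le hp (zpowers_le.2 hx)
  rw [e, card_bot, Nat.card_zpowers] at this
  have hx1 : x = 1 := orderOf_eq_one_iff.1 (le_antisymm this (orderOf_pos x))
  exact hxc (hx1 ▸ one_mem _)

theorem simple_center_bot {L : Type u} [Group L] [IsSimpleGroup L] (hna : ¬ IsMulCommutative L) :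
    Subgroup.center L = ⊥ :=
  ((Subgroup.center L).normal_of_characteristic.eq_bot_or_eq_top).resolve_right fun e =>
    hna ⟨⟨fun x y => mem_center_iff.1 (e ▸ mem_top y) x⟩⟩

/-- `A` normalises the components. -/
theorem normalizes_component (hO : ∀ N : Subgroup X, N.Normal → Odd (Nat.card N) → N = ⊥)
    (hF : Cfsg.fittingSubgroup X = ⊥) (h : SC T A) {L : Subgroup X} (hL : Cfsg.IsComponent L) {a : X}
    (ha : a ∈ A) : L.map (MulAut.conj a).toMonoidHom = L := by
  classical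
  haveI : Fact (Nat.Prime 2) := ⟨Nat.prime_two⟩
  obtain ⟨hs, hna⟩ := component_facts hF hL
  haveI := hs
  by_contra hne
  set L' := L.map (MulAut.conj a).toMonoidHom
  have hL' : Cfsg.IsComponent L' := Components.component_conj hL a
  have hcomm : ∀ u ∈ L', ∀ v ∈ L, u * v = v * u := fun u hu v hv =>
    (mem_centralizer_iff.1 (commutator_eq_bot_iff_le_centralizer.1
      (Components.components_commute hL' hL hne) hu) v hv).symm
  have hdis : ∀ u, u ∈ L' → u ∈ L → u = 1 := fun u hu hu' => by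
    have hc : (⟨u, hu'⟩ : L) ∈ Subgroup.center L := mem_center_iff.2 fun v =>
      Subtype.ext (hcomm u hu v v.2).symm
    rw [simple_center_bot hna, mem_bot] at hc
    exact congrArg Subtype.val hc
  have hconj : ∀ v ∈ L, a * v * a⁻¹ ∈ L' := fun v hv => ⟨v, hv, rfl⟩
  have hAL : ∀ y ∈ A, y ∈ L → y = 1 := fun y hy hyL => by
    refine hdis y ?_ hyL
    have := hconj y hyL
    rwa [h.comm a ha y hy, mul_inv_cancel_right] at this
  obtain ⟨x, hx, hx2⟩ := exists_invol_component hO T hL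
  obtain ⟨R, hR⟩ := (sylow_inf_component T hL).toSylow
  have hcen : (⟨x, hx.2⟩ : L) ∈ Subgroup.center L := by
    refine central_of_isolated (fun M hM hodd => core_bot_of_simple
      ⟨⟨x, hx.2⟩, by rw [Subgroup.orderOf_mk, hx2]⟩ M hM hodd) R (by rw [Subgroup.orderOf_mk, hx2]) ?_
      fun g hg => Subtype.ext ?_
    · show (⟨x, hx.2⟩ : L) ∈ (R : Subgroup L)
      rw [hR]; exact hx
    change _ ∈ (R : Subgroup L) at hg
    rw [hR] at hg
    have hgT : (g : X) * x * (g : X)⁻¹ ∈ (T : Subgroup X) := hg.1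
    show (g : X) * x * (g : X)⁻¹ = x
    have hc : a * x * a⁻¹ * x⁻¹ ∈ A := by
      rw [show a * x * a⁻¹ * x⁻¹ = a * (x * a⁻¹ * x⁻¹) by group]
      exact mul_mem ha ((mem_normalizer_iff.1 (h.sylow_le_normalizer hx.1) _).1 (inv_mem ha))
    have hcg : (g : X) * (a * x * a⁻¹ * x⁻¹) * (g : X)⁻¹ = a * x * a⁻¹ * ((g : X) * x * (g : X)⁻¹)⁻¹ :=
      calc (g : X) * (a * x * a⁻¹ * x⁻¹) * (g : X)⁻¹
          = ((g : X) * (a * x * a⁻¹)) * (x⁻¹ * (g : X)⁻¹) := by group
        _ = (a * x * a⁻¹ * g) * (x⁻¹ * (g : X)⁻¹) := by rw [← hcomm _ (hconj x hx.2) g g.2]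
        _ = _ := by group
    have hmem := h.mem hc (g := (g : X)) (by
      rw [hcg]
      exact mul_mem (mul_mem (mul_mem (h.le ha) hx.1) (inv_mem (h.le ha))) (inv_mem hgT))
    have := hAL _ (mul_mem (inv_mem hc) hmem) (by
      rw [hcg, show (a * x * a⁻¹ * x⁻¹)⁻¹ * (a * x * a⁻¹ * ((g : X) * x * (g : X)⁻¹)⁻¹) =
        x * ((g : X) * x * (g : X)⁻¹)⁻¹ by group]
      exact mul_mem hx.2 (inv_mem (mul_mem (mul_mem g.2 hx.2) (inv_mem g.2))))
    rw [hcg, show (a * x * a⁻¹ * x⁻¹)⁻¹ * (a * x * a⁻¹ * ((g : X) * x * (g : X)⁻¹)⁻¹) =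
        x * ((g : X) * x * (g : X)⁻¹)⁻¹ by group, mul_inv_eq_one] at this
    exact this.symm
  rw [simple_center_bot hna, mem_bot] at hcen
  rw [show x = 1 from congrArg Subtype.val hcen, orderOf_one] at hx2
  exact absurd hx2 (by norm_num)

theorem component_normal (hO : ∀ N : Subgroup X, N.Normal → Odd (Nat.card N) → N = ⊥)
    (hF : Cfsg.fittingSubgroup X = ⊥) (h : SC T A) (hgen : normalClosure (A : Set X) = ⊤)
    {L : Subgroup X} (hL : Cfsg.IsComponent L) : L.Normal := by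
  let K : Subgroup X := ⨅ M : {M : Subgroup X // Cfsg.IsComponent M}, normalizer (M.1 : Set X)
  have hK : K.Normal := ⟨fun k hk g => by
    simp only [K, mem_iInf] at hk ⊢
    rintro ⟨M, hM⟩
    have h1 := hk ⟨_, Components.component_conj hM g⁻¹⟩
    refine mem_normalizer_fintype fun m hm => ?_
    obtain ⟨m', hm', e⟩ := (mem_normalizer_iff.1 h1 (g⁻¹ * m * g)).1 ⟨m, hm, by simp⟩
    have e' : g⁻¹ * m' * g = k * (g⁻¹ * m * g) * k⁻¹ := by simpa using e
    have e2 : g * k * g⁻¹ * m * (g * k * g⁻¹)⁻¹ = m' := by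
      calc g * k * g⁻¹ * m * (g * k * g⁻¹)⁻¹ = g * (k * (g⁻¹ * m * g) * k⁻¹) * g⁻¹ := by group
        _ = m' := by rw [← e']; group
    exact e2.symm ▸ hm'⟩
  have hA : A ≤ K := fun a ha => by
    simp only [K, mem_iInf]
    rintro ⟨M, hM⟩
    exact Cfsg.Agent.LEBasic.map_conj_eq_iff_mem_normalizer.1 (normalizes_component hO hF h hM ha)
  have htop : K = ⊤ := eq_top_iff.2 (hgen ▸ normalClosure_le_normal hA)
  refine normalizer_eq_top_iff.1 (eq_top_iff.2 ?_)
  rw [← htop]
  exact iInf_le (fun M : {M : Subgroup X // Cfsg.IsComponent M} => normalizer (M.1 : Set X)) ⟨L, hL⟩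

theorem inf_component_ne_bot (hO : ∀ N : Subgroup X, N.Normal → Odd (Nat.card N) → N = ⊥)
    (hF : Cfsg.fittingSubgroup X = ⊥) (h : SC T A) (hgen : normalClosure (A : Set X) = ⊤)
    {L : Subgroup X} (hL : Cfsg.IsComponent L) : A ⊓ L ≠ ⊥ := by
  classical
  haveI : Fact (Nat.Prime 2) := ⟨Nat.prime_two⟩
  obtain ⟨hs, hna⟩ := component_facts hF hL
  haveI := hs
  haveI hLn := component_normal hO hF h hgen hL
  intro hbot
  -- the group generated by `L` and `A`
  obtain ⟨P, hP⟩ := h.restrict (M := L ⊔ A) le_sup_right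
  obtain ⟨f, hf⟩ : ∃ f : ↥(L ⊔ A) →* ↥(L ⊔ A) ⧸ (centralizer (L : Set X)).subgroupOf (L ⊔ A),
      f = QuotientGroup.mk' _ := ⟨_, rfl⟩
  have hfs : Function.Surjective f := hf ▸ QuotientGroup.mk'_surjective _
  have hker : ∀ x, f x = 1 ↔ (x : X) ∈ centralizer (L : Set X) := fun x => by
    rw [hf, QuotientGroup.mk'_apply, QuotientGroup.eq_one_iff]; rfl
  have hiso : ∀ a ∈ A.subgroupOf (L ⊔ A), ∀ y, y * f a * y⁻¹ ∈ ((P.mapSurjective hfs : Sylow 2 _) : Subgroup _) →
      y * f a * y⁻¹ = f a := by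
    intro a ha y hy
    obtain ⟨g, rfl⟩ := hfs y
    obtain ⟨k, hk, hka⟩ := hP.lift f ha hy
    have h1 : ((k : X) * (a : X) * (k : X)⁻¹) * (a : X)⁻¹ ∈ A := mul_mem hka (inv_mem ha)
    have h2 : ((k : X) * (a : X) * (k : X)⁻¹) * (a : X)⁻¹ ∈ L := by
      obtain ⟨l, hl, b, hb, e⟩ := mem_sup_of_normal_left.1 k.2
      rw [← e, show l * b * (a : X) * (l * b)⁻¹ * (a : X)⁻¹ = l * ((b * a * b⁻¹) * l⁻¹ * (a : X)⁻¹) by group,
        h.comm b hb a ha, mul_inv_cancel_right]
      exact mul_mem hl (hLn.conj_mem _ (inv_mem hl) _)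
    have h3 : ((k : X) * (a : X) * (k : X)⁻¹) * (a : X)⁻¹ ∈ (⊥ : Subgroup X) := hbot ▸ ⟨h1, h2⟩
    rw [← hk, ← map_inv, ← map_mul, ← map_mul]
    exact congrArg f (Subtype.ext (mul_inv_eq_one.1 (mem_bot.1 h3)))
  obtain ⟨L1, hL1⟩ : ∃ L1 : Subgroup ↥(L ⊔ A), L1 = L.subgroupOf (L ⊔ A) := ⟨_, rfl⟩
  have hL1n : L1.Normal := hL1 ▸ hLn.subgroupOf _
  let g1 : L →* (↥(L ⊔ A) ⧸ (centralizer (L : Set X)).subgroupOf (L ⊔ A)) := f.comp (Subgroup.inclusion le_sup_left)
  have hg1 : Function.Injective g1 := (injective_iff_map_eq_one g1).2 fun l hl => by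
    have hc : l ∈ Subgroup.center L := mem_center_iff.2 fun v =>
      Subtype.ext (mem_centralizer_iff.1 ((hker _).1 hl) v v.2)
    rwa [simple_center_bot hna, mem_bot] at hc
  obtain ⟨w, hw, hw2⟩ := exists_invol_component hO T hL
  have hN : g1.range = L1.map f := by
    rw [hL1, show g1.range = (⊤ : Subgroup L).map g1 from MonoidHom.range_eq_map g1]
    ext z
    constructor
    · rintro ⟨l, -, rfl⟩; exact ⟨_, mem_subgroupOf.2 l.2, rfl⟩
    · rintro ⟨x, hx, rfl⟩; exact ⟨⟨x, hx⟩, mem_top _, rfl⟩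
  have hNn : g1.range.Normal := hN ▸ hL1n.map f hfs
  have hC : centralizer (SetLike.coe g1.range) = ⊥ := by
    rw [eq_bot_iff]
    intro z hz
    obtain ⟨x, rfl⟩ := hfs z
    rw [mem_bot, hker, mem_centralizer_iff]
    intro v hv
    have := mem_centralizer_iff.1 hz (g1 ⟨v, hv⟩) ⟨_, rfl⟩
    have h2 : f ((Subgroup.inclusion le_sup_left ⟨v, hv⟩ * x) * (x * Subgroup.inclusion le_sup_left ⟨v, hv⟩)⁻¹) = 1 := by
      rw [map_mul, map_inv, map_mul, map_mul, mul_inv_eq_one]
      exact this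
    have h3 := (hker _).1 h2
    have h4 : v * (x : X) * ((x : X) * v)⁻¹ ∈ L := by
      rw [show v * (x : X) * ((x : X) * v)⁻¹ = v * ((x : X) * v⁻¹ * (x : X)⁻¹) by group]
      exact mul_mem hv (hLn.conj_mem _ (inv_mem hv) _)
    have hc : (⟨_, h4⟩ : L) ∈ Subgroup.center L := mem_center_iff.2 fun u =>
      Subtype.ext (mem_centralizer_iff.1 h3 u u.2)
    rw [simple_center_bot hna, mem_bot] at hc
    exact mul_inv_eq_one.1 (congrArg Subtype.val hc)
  have hcore := odd_normal_bot hNn ((MonoidHom.ofInjective hg1).symm.isSimpleGroup_congr.2 hs)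
    ⟨g1 ⟨w, hw.2⟩, ⟨_, rfl⟩, by rw [orderOf_injective g1 hg1, Subgroup.orderOf_mk, hw2]⟩ hC
  have hA1 : (A.subgroupOf (L ⊔ A)).map f = ⊥ := by
    by_contra hne
    obtain ⟨z, hz, hz2⟩ := exists_involution ((h.isPGroup.comap_subtype (K := L ⊔ A)).map f) hne
    obtain ⟨a, ha, rfl⟩ := hz
    have hcen := central_of_isolated hcore (P.mapSurjective hfs) hz2 ⟨a, hP.le ha, rfl⟩ (fun y hy => hiso a ha y hy)
    have h1 : f a ∈ (⊥ : Subgroup _) := hC ▸ mem_centralizer_iff.2 fun y _ => mem_center_iff.1 hcen y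
    rw [mem_bot.1 h1, orderOf_one] at hz2
    exact absurd hz2 (by norm_num)
  have hAC : A ≤ centralizer (L : Set X) := fun a ha => by
    have h1 : f ⟨a, mem_sup_right ha⟩ ∈ (A.subgroupOf (L ⊔ A)).map f := ⟨_, mem_subgroupOf.2 ha, rfl⟩
    rw [hA1, mem_bot, hker] at h1
    exact h1
  have htop : centralizer (L : Set X) = ⊤ := eq_top_iff.2 (hgen ▸ normalClosure_le_normal hAC)
  have hv : ∀ v : X, v ∈ centralizer (L : Set X) := fun v => by rw [htop]; exact mem_top v
  exact hna ⟨⟨fun u v => Subtype.ext (mem_centralizer_iff.1 (hv v) u u.2)⟩⟩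

/-- The image of `A` modulo the centraliser of a component is inner. -/
theorem projection (h1 : GoldGroups.ClosedAbelianSimple.{u}) (hW : GoldGroups.WalterGood.{u})
    (hNF : GoldGroups.RJNoField.{u})
    (hO : ∀ N : Subgroup X, N.Normal → Odd (Nat.card N) → N = ⊥) (hF : Cfsg.fittingSubgroup X = ⊥)
    (h : SC T A) (hgen : normalClosure (A : Set X) = ⊤) {L : Subgroup X} (hL : Cfsg.IsComponent L) :
    L ⊔ centralizer (L : Set X) = ⊤ ∧ (∀ a ∈ A, a * a ∈ centralizer (L : Set X)) ∧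
      InSimple.{u, u} T A L := by
  classical
  haveI : Fact (Nat.Prime 2) := ⟨Nat.prime_two⟩
  obtain ⟨hs, hna⟩ := component_facts hF hL
  haveI := hs
  haveI hLn := component_normal hO hF h hgen hL
  have hALne := inf_component_ne_bot hO hF h hgen hL
  suffices hmain : L ⊔ centralizer (L : Set X) = ⊤ ∧ ∀ a ∈ A, a * a ∈ centralizer (L : Set X) from
    ⟨hmain.1, hmain.2, inSimple h1 hW hNF h hLn hs hna hALne⟩
  obtain ⟨C, hC⟩ : ∃ C : Subgroup X, C = centralizer (L : Set X) := ⟨_, rfl⟩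
  rw [← hC]
  haveI hCn : C.Normal := hC ▸ inferInstance
  obtain ⟨f, hf⟩ : ∃ f : X →* X ⧸ C, f = QuotientGroup.mk' C := ⟨_, rfl⟩
  have hfs : Function.Surjective f := hf ▸ QuotientGroup.mk'_surjective C
  have hker : ∀ x, f x = 1 ↔ x ∈ C := fun x => by rw [hf]; exact QuotientGroup.eq_one_iff x
  have hmap := h.map f hfs
  obtain ⟨N, hNdef⟩ : ∃ N : Subgroup (X ⧸ C), N = L.map f := ⟨_, rfl⟩
  have hNn : N.Normal := hNdef ▸ hLn.map f hfs
  have hmemN : ∀ l ∈ L, f l ∈ N := fun l hl => by rw [hNdef]; exact ⟨l, hl, rfl⟩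
  have hLC : ∀ l ∈ L, l ∈ C → l = 1 := fun l hl hlc => by
    have hc : (⟨l, hl⟩ : L) ∈ Subgroup.center L := mem_center_iff.2 fun v =>
      Subtype.ext (mem_centralizer_iff.1 (show l ∈ centralizer (L : Set X) by rw [← hC]; exact hlc) v v.2)
    rw [simple_center_bot hna, mem_bot] at hc
    exact congrArg Subtype.val hc
  let eN : L ≃* N := (MulEquiv.ofBijective ((f.comp L.subtype).codRestrict N fun l => hmemN l l.2) ⟨by
    rw [injective_iff_map_eq_one]
    exact fun l hl => Subtype.ext (hLC l l.2 ((hker _).1 (congrArg Subtype.val hl))), by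
    rintro ⟨y, hy⟩
    rw [hNdef] at hy
    obtain ⟨l, hl, rfl⟩ := hy
    exact ⟨⟨l, hl⟩, rfl⟩⟩)
  have hCN : centralizer (N : Set (X ⧸ C)) = ⊥ := by
    rw [eq_bot_iff]
    intro z hz
    obtain ⟨x, rfl⟩ := hfs z
    rw [mem_bot, hker, hC, mem_centralizer_iff]
    intro v hv
    have := mem_centralizer_iff.1 hz (f v) (hmemN v hv)
    rw [← map_mul, ← map_mul] at this
    have h3 : v * x * (x * v)⁻¹ ∈ C := (hker _).1 (by rw [map_mul, map_inv, this, mul_inv_cancel])
    refine mul_inv_eq_one.1 (hLC _ ?_ h3)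
    rw [show v * x * (x * v)⁻¹ = v * (x * v⁻¹ * x⁻¹) by group]
    exact mul_mem hv (hLn.conj_mem _ (inv_mem hv) _)
  -- inside `N ⊔ A`
  obtain ⟨P, hP⟩ := hmap.restrict (M := N ⊔ A.map f) le_sup_right
  have hNs : IsSimpleGroup (N.subgroupOf (N ⊔ A.map f)) :=
    ((subgroupOfEquivOfLe le_sup_left).trans eN.symm).isSimpleGroup_congr.2 hs
  have hNna : ¬ IsMulCommutative (N.subgroupOf (N ⊔ A.map f)) := fun hcm =>
    hna ⟨⟨fun a b => ((subgroupOfEquivOfLe (le_sup_left : N ≤ N ⊔ A.map f)).trans eN.symm).symm.injective (by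
      rw [map_mul, map_mul]; exact hcm.is_comm.comm _ _)⟩⟩
  have hsup : N.subgroupOf (N ⊔ A.map f) ⊔ (A.map f).subgroupOf (N ⊔ A.map f) = ⊤ := by
    rw [← subgroupOf_sup le_sup_left le_sup_right, subgroupOf_self]
  have hC' : centralizer ((N.subgroupOf (N ⊔ A.map f)) : Set ↥(N ⊔ A.map f)) = ⊥ := by
    rw [eq_bot_iff]
    intro z hz
    have : (z : X ⧸ C) ∈ (⊥ : Subgroup (X ⧸ C)) := hCN ▸ mem_centralizer_iff.2 fun y hy =>
      congrArg Subtype.val (mem_centralizer_iff.1 hz ⟨y, mem_sup_left hy⟩ hy)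
    exact mem_bot.2 (Subtype.ext (mem_bot.1 this))
  have hAN : (A.map f).subgroupOf (N ⊔ A.map f) ⊓ N.subgroupOf (N ⊔ A.map f) ≠ ⊥ := by
    obtain ⟨w, hw, hw2⟩ := exists_involution (h.isPGroup.to_le inf_le_left) hALne
    intro e
    have hwm : f w ∈ N ⊔ A.map f := mem_sup_right ⟨w, hw.1, rfl⟩
    have : (⟨f w, hwm⟩ : ↥(N ⊔ A.map f)) ∈ (⊥ : Subgroup _) := e ▸ ⟨⟨w, hw.1, rfl⟩, hmemN w hw.2⟩
    have hw1 : w = 1 := hLC w hw.2 ((hker w).1 (congrArg Subtype.val (mem_bot.1 this)))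
    rw [hw1, orderOf_one] at hw2
    exact absurd hw2 (by norm_num)
  haveI hN' : (N.subgroupOf (N ⊔ A.map f)).Normal := hNn.subgroupOf _
  have hi := inSimple.{u, u} h1 hW hNF hP hN' hNs hNna hAN
  have hle : N.subgroupOf (N ⊔ A.map f) = ⊤ := inner hP hN' hNs hNna hC' hsup hAN hi
  have hAle : A.map f ≤ N := le_sup_right.trans (subgroupOf_eq_top.1 hle)
  refine ⟨?_, fun a ha => ?_⟩
  · haveI : (L ⊔ C).Normal := inferInstance
    refine eq_top_iff.2 (hgen ▸ normalClosure_le_normal fun a ha => ?_)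
    have hfa : f a ∈ L.map f := by rw [← hNdef]; exact hAle ⟨a, ha, rfl⟩
    obtain ⟨l, hl, e⟩ := hfa
    have hc : l⁻¹ * a ∈ C := (hker _).1 (by rw [map_mul, map_inv, e, inv_mul_cancel])
    rw [show a = l * (l⁻¹ * a) by group]
    exact mul_mem (mem_sup_left hl) (mem_sup_right hc)
  · have hm : f a ∈ N ⊔ A.map f := mem_sup_right ⟨a, ha, rfl⟩
    have := (hi.inv ⟨f a, hm⟩ (hle ▸ mem_top _) (hP.le ⟨a, ha, rfl⟩)).2 ⟨a, ha, rfl⟩
    exact (hker _).1 (by rw [map_mul]; exact congrArg Subtype.val this)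

theorem component_perfect {L : Subgroup X} (hL : Cfsg.IsComponent L) : L ≤ commutator X := by
  rw [← Components.component_commutator_eq hL, commutator_def]
  exact commutator_mono le_top le_top

/-- **The model.** -/
theorem model (h1 : GoldGroups.ClosedAbelianSimple.{u}) (hW : GoldGroups.WalterGood.{u})
    (hNF : GoldGroups.RJNoField.{u})
    (hO : ∀ N : Subgroup X, N.Normal → Odd (Nat.card N) → N = ⊥) (h2 : Cfsg.pCore 2 X = ⊥)
    (h : SC T A) (hgen : normalClosure (A : Set X) = ⊤) : Model T A := by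
  classical
  haveI : Fact (Nat.Prime 2) := ⟨Nat.prime_two⟩
  have hF := fitting_bot hO h2
  obtain ⟨n, ⟨e⟩⟩ : ∃ n, Nonempty ({L : Subgroup X // Cfsg.IsComponent L} ≃ Fin n) :=
    ⟨_, ⟨Finite.equivFin _⟩⟩
  obtain ⟨L, hLdef⟩ : ∃ L : Fin n → Subgroup X, ∀ i, L i = (e.symm i).1 := ⟨_, fun _ => rfl⟩
  have hL : ∀ i, Cfsg.IsComponent (L i) := fun i => hLdef i ▸ (e.symm i).2
  have hall : ∀ M : Subgroup X, Cfsg.IsComponent M → ∃ i, L i = M := fun M hM =>
    ⟨e ⟨M, hM⟩, by rw [hLdef, e.symm_apply_apply]⟩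
  have hinj : ∀ i j, L i = L j → i = j := fun i j hij => by
    rw [hLdef, hLdef] at hij
    exact e.symm.injective (Subtype.ext hij)
  have hLn : ∀ i, (L i).Normal := fun i => component_normal hO hF h hgen (hL i)
  have hpr := fun i => projection h1 hW hNF hO hF h hgen (hL i)
  haveI : ∀ i, (centralizer (L i : Set X)).Normal := fun i => by haveI := hLn i; infer_instance
  let Y : Fin n → Type u := fun i => X ⧸ centralizer (L i : Set X)
  letI : ∀ i, Group (Y i) := fun i => inferInstanceAs (Group (X ⧸ centralizer (L i : Set X)))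
  let Φ : X →* ((i : Fin n) → Y i) := MonoidHom.pi fun i => QuotientGroup.mk' (centralizer (L i : Set X))
  have hΦ : ∀ x i, Φ x i = QuotientGroup.mk' (centralizer (L i : Set X)) x := fun _ _ => rfl
  have hker : ∀ x i, Φ x i = 1 ↔ x ∈ centralizer (L i : Set X) := fun x i => by
    rw [hΦ]; exact QuotientGroup.eq_one_iff x
  have hΦi : Function.Injective Φ := (injective_iff_map_eq_one Φ).2 fun x hx => by
    rw [← mem_bot, ← centralizer_layer_bot hF, mem_centralizer_iff]
    intro y hy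
    have hle : Cfsg.layer X ≤ centralizer ({x} : Set X) := Components.layer_le_iff.2 fun M hM y hy => by
      obtain ⟨i, rfl⟩ := hall M hM
      rw [mem_centralizer_singleton_iff]
      exact mem_centralizer_iff.1 ((hker x i).1 (congrFun hx i)) y hy
    exact mem_centralizer_singleton_iff.1 (hle hy)
  have hsingle : ∀ i, ∀ l ∈ L i, Φ l = Pi.mulSingle i (Φ l i) := fun i l hl => by
    funext j
    by_cases hij : j = i
    · subst hij; rw [Pi.mulSingle_eq_same]
    · rw [Pi.mulSingle_eq_of_ne hij, hker]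
      exact commutator_eq_bot_iff_le_centralizer.1
        (Components.components_commute (hL i) (hL j) fun e' => hij (hinj i j e').symm) hl
  have hproj : ∀ i y, ∃ l ∈ L i, Φ l i = y := fun i y => by
    obtain ⟨x, rfl⟩ := QuotientGroup.mk'_surjective _ y
    obtain ⟨l, hl, c, hc, rfl⟩ := mem_sup_of_normal_right.1 ((hpr i).1 ▸ mem_top x)
    refine ⟨l, hl, ?_⟩
    rw [hΦ, map_mul]
    rw [(show QuotientGroup.mk' (centralizer (L i : Set X)) c = 1 from (QuotientGroup.eq_one_iff c).2 hc), mul_one]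
  have hΦs : Function.Surjective Φ := fun y => by
    have : y ∈ Φ.range := pi_mem_of_mulSingle_mem y fun i => by
      obtain ⟨l, hl, e'⟩ := hproj i (y i)
      exact ⟨l, by rw [hsingle i l hl, e']⟩
    exact this
  -- coordinates inside the Sylow subgroup
  have hcoord : ∀ x ∈ (T : Subgroup X), ∀ i, ∃ t ∈ (T : Subgroup X) ⊓ L i, Φ t i = Φ x i := by
    intro x hx i
    have hs := (sylow_inf_component T (hL i)).map (QuotientGroup.mk' (centralizer (L i : Set X)))
    have htop : (L i).map (QuotientGroup.mk' (centralizer (L i : Set X))) = ⊤ := eq_top_iff.2 fun y _ => by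
      obtain ⟨l, hl, e'⟩ := hproj i y
      exact ⟨l, hl, e'⟩
    rw [htop] at hs
    have heq := hs.eq_of_le (map_mono inf_le_left) (le_top (a := (T : Subgroup X).map (QuotientGroup.mk' _)))
      (T.2.map _)
    obtain ⟨t, ht, e'⟩ : QuotientGroup.mk' (centralizer (L i : Set X)) x ∈
        ((T : Subgroup X) ⊓ L i).map (QuotientGroup.mk' (centralizer (L i : Set X))) := heq ▸ ⟨x, hx, rfl⟩
    exact ⟨t, ht, e'⟩
  have hin : ∀ (H : Subgroup X) (x : X), (∀ i, ∃ t ∈ H, t ∈ L i ∧ Φ t i = Φ x i) → x ∈ H := by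
    intro H x hx
    have : Φ x ∈ H.map Φ := pi_mem_of_mulSingle_mem _ fun i => by
      obtain ⟨t, htH, htL, e'⟩ := hx i
      exact ⟨t, htH, by rw [hsingle i t htL, e']⟩
    obtain ⟨y, hy, e'⟩ := this
    exact hΦi e' ▸ hy
  have hone : ∀ i, ∀ t ∈ L i, Φ t i = 1 → t = 1 := fun i t ht e' => hΦi (by
    rw [hsingle i t ht, e', map_one, Pi.mulSingle_one])
  have hinv : ∀ x ∈ (T : Subgroup X), x * x = 1 → x ∈ A := fun x hx hxx => hin A x fun i => by
    obtain ⟨t, ⟨htT, htL⟩, e'⟩ := hcoord x hx i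
    have ht2 : t * t = 1 := hone i _ (mul_mem htL htL) (by
      have h1 : Φ (t * t) i = Φ (x * x) i := by simp only [map_mul, Pi.mul_apply, e']
      rw [h1, hxx, map_one]; rfl)
    exact ⟨t, ((hpr i).2.2.inv t htL htT).1 ht2, htL, e'⟩
  have hsq : ∀ a ∈ A, a * a = 1 := fun a ha => hΦi (funext fun i => by
    rw [map_one, Pi.one_apply, hker]; exact (hpr i).2.1 a ha)
  have hsq2 : ∀ x ∈ (T : Subgroup X), x * x * (x * x) = 1 := fun x hx => hΦi (funext fun i => by
    obtain ⟨t, ⟨htT, htL⟩, e'⟩ := hcoord x hx i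
    obtain ⟨R, hR⟩ := sylow_inf T (hLn i)
    have ht : (⟨t, htL⟩ : L i) ∈ (R : Subgroup (L i)) := by rw [hR]; exact ⟨htT, htL⟩
    have h4 : t * t * (t * t) = 1 := congrArg Subtype.val (((hpr i).2.2.bend R).sq _ ht)
    have h1 : Φ (x * x * (x * x)) i = Φ (t * t * (t * t)) i := by simp only [map_mul, Pi.mul_apply, e']
    rw [h1, h4])
  let ei : ∀ i, L i ≃* Y i := fun i =>
    MulEquiv.ofBijective ((Pi.evalMonoidHom Y i).comp (Φ.comp (L i).subtype)) ⟨by
      rw [injective_iff_map_eq_one]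
      exact fun l hl => Subtype.ext (hone i l l.2 hl), fun y => by
      obtain ⟨l, hl, e'⟩ := hproj i y
      exact ⟨⟨l, hl⟩, e'⟩⟩
  refine ⟨hsq, hinv, fun x hx => hinv _ (mul_mem hx hx) (hsq2 x hx), ?_, ?_, ?_, ?_,
    Fin n, inferInstance, fun i => ↥(L i), inferInstance, ?_,
    ⟨(MulEquiv.ofBijective Φ ⟨hΦi, hΦs⟩).trans (MulEquiv.piCongrRight fun i => (ei i).symm)⟩⟩
  · intro M _ f hl hr hvan hfi
    have hdT : ∀ i, ∀ d ∈ L i, (∀ t ∈ (T : Subgroup X), t ∈ L i → d * t * d⁻¹ ∈ (T : Subgroup X)) →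
        d ∈ normalizer ((T : Subgroup X) : Set X) := by
      intro i d hd hdn
      refine mem_normalizer_fintype fun x hx => ?_
      refine hin (T : Subgroup X) _ fun j => ?_
      obtain ⟨t, ⟨htT, htL⟩, e'⟩ := hcoord x hx j
      by_cases hij : j = i
      · subst hij
        exact ⟨_, hdn t htT htL, mul_mem (mul_mem hd htL) (inv_mem hd), by
          simp only [map_mul, Pi.mul_apply, e']⟩
      · refine ⟨t, htT, htL, ?_⟩
        have hd1 : Φ d j = 1 := by rw [hsingle i d hd, Pi.mulSingle_eq_of_ne hij]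
        rw [map_mul, map_mul, Pi.mul_apply, Pi.mul_apply, map_inv, Pi.inv_apply, hd1, one_mul, inv_one, mul_one, e']
    -- generators
    have hgen' : ∀ i j, ∀ x ∈ (T : Subgroup X), x ∈ L i → ∀ y ∈ (T : Subgroup X), y ∈ L j → f x y = 1 := by
      intro i j x hxT hxL y hyT hyL
      obtain ⟨R, hR⟩ := sylow_inf T (hLn i)
      have memR : ∀ z : L i, z ∈ (R : Subgroup (L i)) ↔ (z : X) ∈ (T : Subgroup X) := fun z => by
        rw [hR]; exact ⟨fun h => h.1, fun h => ⟨h, z.2⟩⟩
      have hB := (hpr i).2.2.bend R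
      have hA1 : ∀ z : L i, z ∈ (R : Subgroup (L i)) → z * z = 1 → (z : X) ∈ A := fun z hz hz2 =>
        ((hpr i).2.2.inv z z.2 ((memR z).1 hz)).1 (congrArg Subtype.val hz2)
      have hdn : ∀ d : L i, d ∈ normalizer ((R : Subgroup (L i)) : Set (L i)) →
          (d : X) ∈ normalizer ((T : Subgroup X) : Set X) := fun d hd => hdT i d d.2 fun t htT htL =>
        (memR _).1 ((mem_normalizer_iff.1 hd ⟨t, htL⟩).1 ((memR _).2 htT))
      by_cases hij : j = i
      · subst hij
        exact hB.pair (fun p q : L j => f (p : X) (q : X))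
          (fun p hp q hq r hr' => hl _ ((memR p).1 hp) _ ((memR q).1 hq) _ ((memR r).1 hr'))
          (fun p hp q hq r hr' => hr _ ((memR p).1 hp) _ ((memR q).1 hq) _ ((memR r).1 hr'))
          (fun w hw hw2 r hr' => hvan _ (hA1 w hw hw2) _ ((memR r).1 hr'))
          (fun d hd p hp q hq => hfi _ (hdn d hd) _ ((memR p).1 hp) _ ((memR q).1 hq))
          ⟨x, hxL⟩ ((memR _).2 hxT) ⟨y, hyL⟩ ((memR _).2 hyT)
      obtain ⟨d, hd, hfpf⟩ := hB.fpf
      have hdy : (d : X) * y * (d : X)⁻¹ = y := by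
        rw [mem_centralizer_iff.1 (commutator_eq_bot_iff_le_centralizer.1
          (Components.components_commute (hL j) (hL i) fun e' => hij (hinj j i e')) hyL) d d.2, mul_inv_cancel_right]
      -- the subgroup of the involutions
      letI Rg : Group (R : Subgroup (L i)) := inferInstance
      let Ω : Subgroup (R : Subgroup (L i)) :=
        { carrier := {z | z * z = 1}
          one_mem' := one_mul 1
          mul_mem' := fun {p q} hp hq => by
            show p * q * (p * q) = 1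
            have hc : p * q = q * p := Subtype.ext (hB.central p p.2 (congrArg Subtype.val hp) q q.2)
            rw [show p * q * (p * q) = p * (q * p) * q by group, ← hc, show p * (p * q) * q = p * p * (q * q) by group,
              hp, hq, one_mul]
          inv_mem' := fun {p} hp => by
            show p⁻¹ * p⁻¹ = 1
            rw [← mul_inv_rev, hp, inv_one] }
      haveI : Ω.Normal := ⟨fun p hp q => by
        have hc : p * q = q * p := Subtype.ext (hB.central p p.2 (congrArg Subtype.val hp) q q.2)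
        rw [← hc, mul_inv_cancel_right]
        exact hp⟩
      letI : CommGroup ((R : Subgroup (L i)) ⧸ Ω) :=
        { (inferInstance : Group ((R : Subgroup (L i)) ⧸ Ω)) with
          mul_comm := fun p q => by
            have hk : ∀ s : (R : Subgroup (L i)) ⧸ Ω, s * s = 1 := fun s => by
              induction s using QuotientGroup.induction_on with
              | _ m => exact (QuotientGroup.eq_one_iff (m * m)).2 (Subtype.ext (hB.sq m m.2))
            have hi : ∀ s : (R : Subgroup (L i)) ⧸ Ω, s⁻¹ = s := fun s => inv_eq_of_mul_eq_one_right (hk s)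
            rw [← hi (p * q), mul_inv_rev, hi p, hi q] }
      let cd : (R : Subgroup (L i)) →* (R : Subgroup (L i)) := MonoidHom.mk'
        (fun z => ⟨d * (z : L i) * d⁻¹, (mem_normalizer_iff.1 hd _).1 z.2⟩)
        (fun p q => Subtype.ext (by simp [mul_assoc]))
      let δ : (R : Subgroup (L i)) →* (R : Subgroup (L i)) ⧸ Ω :=
        MonoidHom.mk' (fun z => (QuotientGroup.mk' Ω z)⁻¹ * QuotientGroup.mk' Ω (cd z)) fun p q => by
          simp only [map_mul, mul_inv_rev]; ac_rfl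
      have hδker : δ.ker = Ω := by
        ext z
        have e0 : δ z = QuotientGroup.mk' Ω (z⁻¹ * cd z) := by rw [map_mul, map_inv]; rfl
        rw [MonoidHom.mem_ker, e0, QuotientGroup.mk'_apply, QuotientGroup.eq_one_iff]
        constructor
        · intro hz
          exact Subtype.ext (hfpf z z.2 (congrArg Subtype.val hz))
        · intro hz
          have hz' : cd z * cd z = 1 := by rw [← map_mul, hz, map_one]
          exact mul_mem (inv_mem hz) hz'
      have hsurj : Function.Surjective δ := by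
        rw [← MonoidHom.range_eq_top]
        refine eq_top_of_card_eq _ ?_
        rw [← Subgroup.index_ker, hδker]
        rfl
      obtain ⟨z, hz⟩ := hsurj (QuotientGroup.mk' Ω ⟨⟨x, hxL⟩, (memR _).2 hxT⟩)
      have hz' : (z⁻¹ * cd z)⁻¹ * ⟨⟨x, hxL⟩, (memR _).2 hxT⟩ ∈ Ω := by
        rw [← QuotientGroup.eq]
        rw [show (QuotientGroup.mk (z⁻¹ * cd z) : (R : Subgroup (L i)) ⧸ Ω) = δ z by
          rw [← QuotientGroup.mk'_apply, map_mul, map_inv]; rfl]
        exact hz
      obtain ⟨om, hom, he⟩ : ∃ om ∈ Ω, (⟨⟨x, hxL⟩, (memR _).2 hxT⟩ : (R : Subgroup (L i))) = z⁻¹ * cd z * om :=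
        ⟨_, hz', by group⟩
      have hex : x = ((z : L i) : X)⁻¹ * ((d : X) * (z : L i) * (d : X)⁻¹) * ((om : L i) : X) := by
        have := congrArg (fun u : (R : Subgroup (L i)) => ((u : L i) : X)) he
        simpa [cd] using this
      have hzT := (memR _).1 z.2
      have hzd := (memR _).1 (cd z).2
      have hzd' : (d : X) * (z : L i) * (d : X)⁻¹ ∈ (T : Subgroup X) := by simpa [cd] using hzd
      have hcyc : f ((z : L i) : X)⁻¹ y * f ((z : L i) : X) y = 1 := by
        rw [← hl _ (inv_mem hzT) _ hzT _ hyT, inv_mul_cancel]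
        exact (hvan 1 (one_mem A) y hyT).1
      have hfd : f ((d : X) * (z : L i) * (d : X)⁻¹) y = f ((z : L i) : X) y := by
        conv_lhs => rw [← hdy]
        exact hfi _ (hdn d hd) _ hzT _ hyT
      rw [hex, hl _ (mul_mem (inv_mem hzT) hzd') _ ((memR _).1 om.2) _ hyT,
        (hvan _ (hA1 _ om.2 (congrArg Subtype.val hom)) y hyT).1, mul_one, hl _ (inv_mem hzT) _ hzd' _ hyT, hfd, hcyc]
    have hTgen : (T : Subgroup X) ≤ ⨆ i, (T : Subgroup X) ⊓ L i := fun x hx => hin _ x fun i => by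
      obtain ⟨t, ht, e'⟩ := hcoord x hx i
      exact ⟨t, le_iSup (fun i => (T : Subgroup X) ⊓ L i) i ht, ht.2, e'⟩
    have hleT : ∀ i, (T : Subgroup X) ⊓ L i ≤ (T : Subgroup X) := fun i => inf_le_left
    intro x hx y hy
    have step : ∀ i, ∀ u ∈ (T : Subgroup X) ⊓ L i, f u y = 1 := by
      intro i u hu
      have := iSup_induction (fun i => (T : Subgroup X) ⊓ L i) (C := fun v => v ∈ (T : Subgroup X) ∧ f u v = 1)
        (hTgen hy) (fun j v hv => ⟨hv.1, hgen' i j u hu.1 hu.2 v hv.1 hv.2⟩)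
        ⟨one_mem _, (hvan 1 (one_mem A) u hu.1).2⟩
        (fun p q hp hq => ⟨mul_mem hp.1 hq.1, by rw [hr _ hu.1 _ hp.1 _ hq.1, hp.2, hq.2, one_mul]⟩)
      exact this.2
    have := iSup_induction (fun i => (T : Subgroup X) ⊓ L i) (C := fun v => v ∈ (T : Subgroup X) ∧ f v y = 1)
      (hTgen hx) (fun i v hv => ⟨hv.1, step i v hv⟩) ⟨one_mem _, (hvan 1 (one_mem A) y hy).1⟩
      (fun p q hp hq => ⟨mul_mem hp.1 hq.1, by rw [hl _ hp.1 _ hq.1 _ hy, hp.2, hq.2, one_mul]⟩)
    exact this.2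
  · intro a ha
    refine hin (closure (linkSet A)) a fun i => ?_
    obtain ⟨v, ⟨hvT, hvL⟩, e'⟩ := hcoord a (h.le ha) i
    refine ⟨v, ?_, hvL, e'⟩
    by_cases hv1 : v = 1
    · exact hv1 ▸ one_mem _
    have hv2 : v * v = 1 := hone i _ (mul_mem hvL hvL) (by
      have h1 : Φ (v * v) i = Φ (a * a) i := by simp only [map_mul, Pi.mul_apply, e']
      rw [h1, hsq a ha, map_one]; rfl)
    have hvA : v ∈ A := ((hpr i).2.2.inv v hvL hvT).1 hv2
    have hov : orderOf v = 2 := orderOf_eq_prime (by rw [pow_two, hv2]) hv1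
    obtain ⟨hs, hna⟩ := component_facts hF (hL i)
    haveI := hs
    obtain ⟨R, hR⟩ := sylow_inf T (hLn i)
    obtain ⟨g, hgT, hgne⟩ : ∃ g : L i, (g : X) * v * (g : X)⁻¹ ∈ (T : Subgroup X) ∧ (g : X) * v * (g : X)⁻¹ ≠ v := by
      by_contra hall'
      simp only [not_exists, not_and, not_not] at hall'
      have hcen : (⟨v, hvL⟩ : L i) ∈ Subgroup.center (L i) := by
        refine central_of_isolated (fun M hM hodd => core_bot_of_simple
          ⟨⟨v, hvL⟩, by rw [Subgroup.orderOf_mk, hov]⟩ M hM hodd) R (by rw [Subgroup.orderOf_mk, hov]) ?_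
          fun g hg => Subtype.ext ?_
        · show (⟨v, hvL⟩ : L i) ∈ (R : Subgroup (L i))
          rw [hR]; exact ⟨hvT, hvL⟩
        change _ ∈ (R : Subgroup (L i)) at hg
        rw [hR] at hg
        exact hall' g hg.1
      rw [simple_center_bot hna, mem_bot] at hcen
      exact hv1 (congrArg Subtype.val hcen)
    have hw := h.mem hvA hgT
    have hu2 : orderOf (v⁻¹ * ((g : X) * v * (g : X)⁻¹)) = 2 := by
      refine orderOf_eq_prime (by rw [pow_two]; exact hsq _ (mul_mem (inv_mem hvA) hw)) fun e1 => hgne ?_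
      exact (inv_mul_eq_one.1 e1).symm
    obtain ⟨k, hk⟩ := isConj_iff.1 ((hpr i).2.2.one
      ⟨v⁻¹ * ((g : X) * v * (g : X)⁻¹), mul_mem (inv_mem hvL) (mul_mem (mul_mem g.2 hvL) (inv_mem g.2))⟩ ⟨v, hvL⟩
      (by rw [Subgroup.orderOf_mk]; exact hu2) (by rw [Subgroup.orderOf_mk]; exact hov))
    exact subset_closure ⟨hvA, v, hvA, g, k, hw, congrArg Subtype.val hk⟩
  · refine eq_top_iff.2 fun x _ => hin _ x fun i => ?_
    obtain ⟨l, hl, e'⟩ := hproj i (Φ x i)
    exact ⟨l, component_perfect (hL i) hl, hl, e'⟩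
  · rw [eq_bot_iff, ← centralizer_layer_bot hF]
    exact center_le_centralizer _
  · intro i
    exact ⟨(component_facts hF (hL i)).1, (component_facts hF (hL i)).2, (hpr i).2.2.gold⟩

end Cfsg.Agent.GoldStruct
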